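import Cfsg.Agent.H99.O8.Struct

/-!
# S3943, the row `Ω⁺₈(2)` (helper99): counting the conjugates of the element of order 15
-/

set_option autoImplicit false
set_option linter.unusedSectionVars false

namespace Cfsg.Agent.H99.O8

open Module Subgroup QuadraticMap Cfsg.Agent.H518.DghpFix Cfsg.Agent.H99.AS Cfsg.Agent.LieClassical.OrthCore
  Cfsg.Agent.LieClassical.OrthTrans

universe u v w

theorem ncard_biUnion_bound {G : Type*} [Finite G] {ι : Type*} {t : Set ι} (ht : t.Finite) (N : ι → Set G) {c d : ℕ}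
    (h : ∀ i ∈ t, c * (N i).ncard ≤ d) : c * (⋃ i ∈ t, N i).ncard ≤ t.ncard * d := by
  induction t, ht using Set.Finite.induction_on with
  | empty => simp
  | @insert a s ha hs ih =>
    rw [Set.biUnion_insert, Set.ncard_insert_of_notMem ha hs]
    have h1 := ih fun i hi => h i (Set.mem_insert_of_mem _ hi)
    have h2 := h a (Set.mem_insert _ _)
    have h3 := Set.ncard_union_le (N a) (⋃ i ∈ s, N i)
    calc c * (N a ∪ ⋃ i ∈ s, N i).ncard ≤ c * ((N a).ncard + (⋃ i ∈ s, N i).ncard) := Nat.mul_le_mul_left _ h3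
      _ = c * (N a).ncard + c * (⋃ i ∈ s, N i).ncard := by ring
      _ ≤ d + s.ncard * d := by omega
      _ = (s.ncard + 1) * d := by ring

variable {F : Type u} [Field F] [Fintype F] {V : Type v} [AddCommGroup V] [Module F V] [FiniteDimensional F V]

/-- the elements moving `a` to `b` -/
def NN (Q : QuadraticForm F V) (a b : V) : Set ↥(E Q) := {g | (g : V ≃ₗ[F] V) a = b}

variable {Q : QuadraticForm F V}

theorem finite_E (Q : QuadraticForm F V) : Finite ↥(E Q) := by
  have : Finite V := finite_X F V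
  have : Finite (V ≃ₗ[F] V) := Finite.of_injective (fun g : V ≃ₗ[F] V => (g : V → V)) DFunLike.coe_injective
  infer_instance

theorem Qmap {g : V ≃ₗ[F] V} (hg : g ∈ E Q) (v : V) : Q (g v) = Q v := E_le_O hg v

theorem NN_bound (hG : Good Q) {a b : V} (ha : a ≠ 0) {k : ℕ} (hk : k ≤ {v : V | v ≠ 0 ∧ Q v = Q a}.ncard) :
    k * (NN Q a b).ncard ≤ Nat.card ↥(E Q) := by
  have hfE := finite_E Q
  have hfV : Finite V := finite_X F V
  by_cases he : (NN Q a b).Nonempty
  · obtain ⟨g0, hg0⟩ := he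
    have hg0 : (g0 : V ≃ₗ[F] V) a = b := hg0
    have hb : b ≠ 0 := by
      intro h
      rw [h] at hg0
      exact ha ((g0 : V ≃ₗ[F] V).injective (by rw [hg0, map_zero]))
    have hQb : Q b = Q a := by rw [← hg0]; exact Qmap g0.2 a
    have hch : ∀ v : {v : V | v ≠ 0 ∧ Q v = Q a}, ∃ g : ↥(E Q), (g : V ≃ₗ[F] V) b = v := by
      rintro ⟨v, hv0, hv⟩
      obtain ⟨g, hg, h⟩ := hG.trans_norm hb hv0 (hQb.trans hv.symm)
      exact ⟨⟨g, hg⟩, h⟩
    choose c hc using hch
    have hinj : Function.Injective (fun p : {v : V | v ≠ 0 ∧ Q v = Q a} × (NN Q a b) => c p.1 * p.2) := by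
      rintro ⟨v, g, hg⟩ ⟨v', g', hg'⟩ h
      have h : c v * g = c v' * g' := h
      have h1 := congrArg (fun k : ↥(E Q) => (k : V ≃ₗ[F] V) a) h
      have h2 : (c v : V ≃ₗ[F] V) ((g : V ≃ₗ[F] V) a) = (c v' : V ≃ₗ[F] V) ((g' : V ≃ₗ[F] V) a) := h1
      rw [show (g : V ≃ₗ[F] V) a = b from hg, show (g' : V ≃ₗ[F] V) a = b from hg', hc, hc] at h2
      have h3 : v = v' := Subtype.ext h2
      subst h3
      have h4 : g = g' := mul_left_cancel h
      subst h4
      rfl
    have h1 := Nat.card_le_card_of_injective _ hinj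
    rw [Nat.card_prod] at h1
    calc k * (NN Q a b).ncard ≤ {v : V | v ≠ 0 ∧ Q v = Q a}.ncard * (NN Q a b).ncard := Nat.mul_le_mul_right _ hk
      _ ≤ _ := h1
  · rw [Set.not_nonempty_iff_eq_empty] at he
    rw [he, Set.ncard_empty, mul_zero]
    exact Nat.zero_le _

/-- the numbers of vectors -/
structure Num (Q : QuadraticForm F V) : Prop where
  good : Good Q
  h135 : 135 ≤ {v : V | v ≠ 0 ∧ Q v = 0}.ncard
  h120 : 120 ≤ {v : V | Q v = 1}.ncard

theorem Num.sing (hN : Num Q) {a : V} (b : V) (ha : a ≠ 0) (hQ : Q a = 0) :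
    135 * (NN Q a b).ncard ≤ Nat.card ↥(E Q) := by
  apply NN_bound hN.good ha
  rw [hQ]
  exact hN.h135

theorem Num.nonsing (hN : Num Q) {a : V} (b : V) (hQ : Q a = 1) :
    120 * (NN Q a b).ncard ≤ Nat.card ↥(E Q) := by
  have ha : a ≠ 0 := by
    rintro rfl
    rw [QuadraticMap.map_zero] at hQ
    exact zero_ne_one hQ
  apply NN_bound hN.good ha
  rw [hQ]
  refine hN.h120.trans (Set.ncard_le_ncard ?_ ?_)
  · intro v hv
    refine ⟨?_, hv⟩
    rintro rfl
    have hv : Q (0 : V) = 1 := hv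
    rw [QuadraticMap.map_zero] at hv
    exact zero_ne_one hv
  · have hfV : Finite V := finite_X F V
    exact Set.toFinite _

theorem Num.any (hN : Num Q) (hF : Fintype.card F = 2) {a : V} (b : V) (ha : a ≠ 0) :
    135 * (NN Q a b).ncard ≤ 2 * Nat.card ↥(E Q) := by
  rcases eq01 hF (Q a) with h | h
  · have := hN.sing b ha h
    omega
  · have := hN.nonsing b h
    omega

variable {y z : V ≃ₗ[F] V} {U P : Submodule F V} {u1 u2 : V}

/-- the three vectors -/
theorem three_bound (C : Cfg Q y z U P u1 u2) (hN : Num Q) (b : V) :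
    135 * (NN Q u1 b ∪ NN Q u2 b ∪ NN Q (u1 + u2) b).ncard ≤ 2 * Nat.card ↥(E Q) := by
  have hfE := finite_E Q
  rcases eq01 C.hF (Q b) with h | h
  · have h0 : NN Q (u1 + u2) b = ∅ := by
      rw [Set.eq_empty_iff_forall_notMem]
      intro g hg
      have h1 := Qmap g.2 (u1 + u2)
      rw [show (g : V ≃ₗ[F] V) (u1 + u2) = b from hg, h, C.Qn] at h1
      exact zero_ne_one h1
    rw [h0, Set.union_empty]
    have h1 := Set.ncard_union_le (NN Q u1 b) (NN Q u2 b)
    have h2 := hN.sing b C.hyp.left_ne C.hyp.left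
    have h3 := hN.sing b C.hyp.right_ne C.hyp.right
    omega
  · have h0 : NN Q u1 b = ∅ := by
      rw [Set.eq_empty_iff_forall_notMem]
      intro g hg
      have h1 := Qmap g.2 u1
      rw [show (g : V ≃ₗ[F] V) u1 = b from hg, h, C.hyp.left] at h1
      exact one_ne_zero h1
    have h0' : NN Q u2 b = ∅ := by
      rw [Set.eq_empty_iff_forall_notMem]
      intro g hg
      have h1 := Qmap g.2 u2
      rw [show (g : V ≃ₗ[F] V) u2 = b from hg, h, C.hyp.right] at h1
      exact one_ne_zero h1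
    rw [h0, h0', Set.union_empty, Set.empty_union]
    have h2 := hN.nonsing b C.Qn
    omega

/-- the number of vectors -/
theorem card_sub (hF : Fintype.card F = 2) (W : Submodule F V) {k : ℕ} (hk : finrank F W ≤ k) :
    (W : Set V).ncard ≤ 2 ^ k := by
  have h1 : (W : Set V).ncard = 2 ^ finrank F W := by
    rw [← natCard hF, ← Module.natCard_eq_pow_finrank (K := F) (V := W)]
    rfl
  rw [h1]
  exact Nat.pow_le_pow_right (by norm_num) hk

theorem card_sub_ne (hF : Fintype.card F = 2) (W : Submodule F V) {k : ℕ} (hk : finrank F W ≤ k) :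
    {v | v ∈ W ∧ v ≠ 0}.ncard + 1 ≤ 2 ^ k := by
  have hfV : Finite V := finite_X F V
  refine le_trans ?_ (card_sub hF W hk)
  have h1 : (W : Set V) = insert 0 {v | v ∈ W ∧ v ≠ 0} := by
    ext v
    rw [Set.mem_insert_iff]
    constructor
    · intro hv
      by_cases h : v = 0
      · exact Or.inl h
      · exact Or.inr ⟨hv, h⟩
    · rintro (rfl | h)
      · exact W.zero_mem
      · exact h.1
  rw [h1, Set.ncard_insert_of_notMem (fun h => h.2 rfl) (Set.toFinite _)]

/-- the bad elements -/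
def Bad (Q : QuadraticForm F V) (y z x : V ≃ₗ[F] V) : Set ↥(E Q) :=
  {g | ∃ M : Subgroup (V ≃ₗ[F] V), M ≤ O Q ∧ Group.IsSolvable M ∧ x ∈ M ∧
    (g : V ≃ₗ[F] V) * y * (g : V ≃ₗ[F] V)⁻¹ ∈ M ∧ (g : V ≃ₗ[F] V) * z * (g : V ≃ₗ[F] V)⁻¹ ∈ M}

theorem finite_GL : Finite (V ≃ₗ[F] V) := by
  have : Finite V := finite_X F V
  exact Finite.of_injective (fun g : V ≃ₗ[F] V => (g : V → V)) DFunLike.coe_injective

omit [Fintype F] [FiniteDimensional F V] in
theorem inv_app' (g : V ≃ₗ[F] V) (v : V) : g⁻¹ (g v) = v := LinearEquiv.symm_apply_apply g v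

omit [Fintype F] [FiniteDimensional F V] in
theorem app_inv' (g : V ≃ₗ[F] V) (v : V) : g (g⁻¹ v) = v := LinearEquiv.apply_symm_apply g v

/-- bad elements and the three vectors -/
theorem bad_w (C : Cfg Q y z U P u1 u2) {x : V ≃ₗ[F] V} {g : ↥(E Q)} (hg : g ∈ Bad Q y z x) :
    ∃ w, (w = u1 ∨ w = u2 ∨ w = u1 + u2) ∧ x ((g : V ≃ₗ[F] V) w) = (g : V ≃ₗ[F] V) w ∧
      ∀ r : ℕ, r.Prime → x ^ r = 1 → finrank F (RR x) ≤ 2 → (g : V ≃ₗ[F] V) w ∈ RR x ∨
        (∀ v ∈ RR x, ∃ p ∈ P, v = (g : V ≃ₗ[F] V) p ∨ v = (g : V ≃ₗ[F] V) (p + w)) ∨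
        (r = 2 ∧ finrank F (RR x) = 2 ∧ ∀ v ∈ RR x, ∃ u ∈ U, v = (g : V ≃ₗ[F] V) u ∨ v = (g : V ≃ₗ[F] V) (u + w)) := by
  obtain ⟨M, hMO, hsol, hxM, hyM, hzM⟩ := hg
  have hfin : Finite (V ≃ₗ[F] V) := finite_GL
  set k : V ≃ₗ[F] V := (g : V ≃ₗ[F] V) with hk
  have hkO : k ∈ O Q := E_le_O g.2
  set M' := M.map (MulAut.conj k⁻¹).toMonoidHom with hM'
  have hmem : ∀ m : V ≃ₗ[F] V, k * m * k⁻¹ ∈ M → m ∈ M' := fun m hm => ⟨_, hm, by
    show k⁻¹ * (k * m * k⁻¹) * k⁻¹⁻¹ = m
    group⟩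
  have hM'O : M' ≤ O Q := by
    rintro _ ⟨m, hm, rfl⟩
    exact mul_mem (mul_mem (inv_mem hkO) (hMO hm)) (inv_mem (inv_mem hkO))
  have hsol' : Group.IsSolvable M' :=
    Group.isSolvable_of_surjective (MonoidHom.subgroupMap_surjective (MulAut.conj k⁻¹).toMonoidHom M)
  have hyM' := hmem y hyM
  have hzM' := hmem z hzM
  have hxM' : k⁻¹ * x * k ∈ M' := hmem _ (by
    have : k * (k⁻¹ * x * k) * k⁻¹ = x := by group
    rw [this]; exact hxM)
  obtain ⟨w, hw, hMw⟩ := C.fix_exists hsol' hM'O hyM' hzM'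
  have hxw : x (k w) = k w := by
    have h1 := hMw _ hxM'
    have h2 : k⁻¹ (x (k w)) = w := h1
    have h3 := congrArg k h2
    rwa [app_inv'] at h3
  refine ⟨w, hw, hxw, ?_⟩
  intro r hr hxr hR
  have hRR : ∀ v, v ∈ RR (k⁻¹ * x * k) ↔ k v ∈ RR x := by
    intro v
    rw [mem_RR, mem_RR]
    constructor
    · rintro ⟨a, ha⟩
      refine ⟨k a, ?_⟩
      have h1 : k⁻¹ (x (k a)) - a = v := ha
      rw [← h1, map_sub, app_inv']
    · rintro ⟨a, ha⟩
      refine ⟨k⁻¹ a, ?_⟩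
      show k⁻¹ (x (k (k⁻¹ a))) - k⁻¹ a = v
      rw [app_inv', ← map_sub, ha, inv_app']
  have hRm : (RR (k⁻¹ * x * k)).map (k : V →ₗ[F] V) = RR x := by
    ext v
    constructor
    · rintro ⟨a, ha, rfl⟩
      exact (hRR a).1 ha
    · intro hv
      refine ⟨k⁻¹ v, (hRR _).2 ?_, app_inv' k v⟩
      rw [app_inv']; exact hv
  have hfr : finrank F (RR (k⁻¹ * x * k)) = finrank F (RR x) := by
    rw [← hRm]
    exact (LinearEquiv.finrank_map_eq k _).symm
  have hpow : (k⁻¹ * x * k) ^ r = 1 := by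
    have h1 := conj_pow (a := k⁻¹) (b := x) (i := r)
    rw [inv_inv] at h1
    rw [h1, hxr]; group
  rcases C.three_cases hsol' hM'O hyM' hzM' hw hMw hxM' hr hpow (by rw [hfr]; exact hR) with h | h | h
  · exact Or.inl ((hRR w).1 h)
  · right; left
    intro v hv
    obtain ⟨p, hp, h1⟩ := h (k⁻¹ v) ((hRR _).2 (by rw [app_inv']; exact hv))
    refine ⟨p, hp, ?_⟩
    rcases h1 with h1 | h1
    · left; rw [← h1, app_inv']
    · right; rw [← h1, app_inv']
  · right; right
    refine ⟨h.1, by rw [← hfr]; exact h.2.1, ?_⟩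
    intro v hv
    obtain ⟨p, hp, h1⟩ := h.2.2 (k⁻¹ v) ((hRR _).2 (by rw [app_inv']; exact hv))
    refine ⟨p, hp, ?_⟩
    rcases h1 with h1 | h1
    · left; rw [← h1, app_inv']
    · right; rw [← h1, app_inv']

/-- the image of an involution is totally isotropic -/
theorem polar_RR_two (hF : Fintype.card F = 2) {x : V ≃ₗ[F] V} (hx : x ∈ O Q) (hx2 : x ^ 2 = 1) {a b : V}
    (ha : a ∈ RR x) (hb : b ∈ RR x) : polar Q a b = 0 := by
  refine polar_RR hx ?_ hb
  obtain ⟨c, rfl⟩ := mem_RR.1 ha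
  have h1 : x (x c) = c := by
    have : x * x = 1 := by rw [← pow_two, hx2]
    have h2 := congrArg (fun k : V ≃ₗ[F] V => k c) this
    exact h2
  rw [map_sub, h1, ← neg_eq hF (x c - c), neg_sub]

/-- a singular vector in the image of an involution of rank 2 -/
theorem exists_sing (hF : Fintype.card F = 2) {x : V ≃ₗ[F] V} (hx : x ∈ O Q) (hx2 : x ^ 2 = 1)
    (hR : finrank F (RR x) = 2) : ∃ r0 ∈ RR x, r0 ≠ 0 ∧ Q r0 = 0 := by
  have : Nontrivial (RR x) := Module.nontrivial_of_finrank_pos (R := F) (by rw [hR]; norm_num)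
  obtain ⟨⟨a, ha⟩, ha0⟩ := exists_ne (0 : RR x)
  have ha0 : a ≠ 0 := fun h => ha0 (Subtype.ext h)
  have hex : ∃ b ∈ RR x, b ≠ 0 ∧ b ≠ a := by
    by_contra hcon
    push Not at hcon
    have h1 : (RR x : Set V).ncard = 4 := by
      have h2 : (RR x : Set V).ncard = 2 ^ finrank F (RR x) := by
        rw [← natCard hF, ← Module.natCard_eq_pow_finrank (K := F) (V := RR x)]
        rfl
      rw [h2, hR]
      norm_num
    have h2 : (RR x : Set V) ⊆ {0, a} := by
      intro b hb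
      by_cases h : b = 0
      · exact Or.inl h
      · exact Or.inr (hcon b hb h)
    have h3 := Set.ncard_le_ncard h2 (Set.toFinite _)
    have h4 := Set.ncard_pair (ha0.symm)
    omega
  obtain ⟨b, hb, hb0, hba⟩ := hex
  rcases eq01 hF (Q a) with h1 | h1
  · exact ⟨a, ha, ha0, h1⟩
  rcases eq01 hF (Q b) with h2 | h2
  · exact ⟨b, hb, hb0, h2⟩
  refine ⟨a + b, add_mem ha hb, ?_, ?_⟩
  · intro h
    apply hba
    rw [eq_neg_of_add_eq_zero_right h, neg_eq hF]
  · rw [Q_add, h1, h2, polar_RR_two hF hx hx2 ha hb, add_zero]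
    have := two_zero hF
    rw [← this]; norm_num

theorem ncard_image_add (W : Submodule F V) (w : V) {k : ℕ} (h : (W : Set V).ncard ≤ k) :
    ((fun v => v + w) '' (W : Set V)).ncard ≤ k := by
  have hfV : Finite V := finite_X F V
  exact (Set.ncard_image_le (Set.toFinite _)).trans h

/-- the set of images of `w` -/
theorem three_mem {w b : V} (hw : w = u1 ∨ w = u2 ∨ w = u1 + u2) {g : ↥(E Q)} (h : (g : V ≃ₗ[F] V) w = b) :
    g ∈ NN Q u1 b ∪ NN Q u2 b ∪ NN Q (u1 + u2) b := by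
  rcases hw with rfl | rfl | rfl
  · exact Or.inl (Or.inl h)
  · exact Or.inl (Or.inr h)
  · exact Or.inr h

theorem w_ne (C : Cfg Q y z U P u1 u2) {w : V} (hw : w = u1 ∨ w = u2 ∨ w = u1 + u2) : w ≠ 0 := by
  rcases hw with rfl | rfl | rfl
  · exact C.hyp.left_ne
  · exact C.hyp.right_ne
  · exact C.ne_n

theorem app_ne {g : V ≃ₗ[F] V} {v : V} (h : v ≠ 0) : g v ≠ 0 := fun h' => h (g.injective (by rw [h', map_zero]))

/-- **The bound.** -/
theorem bad_bound (C : Cfg Q y z U P u1 u2) (hN : Num Q) {x : V ≃ₗ[F] V} (hx : x ∈ O Q) (hx1 : x ≠ 1) {r : ℕ}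
    (hr : r.Prime) (hxr : x ^ r = 1) : ∃ B : Set ↥(E Q), Bad Q y z x ⊆ B ∧ 2 * B.ncard < Nat.card ↥(E Q) := by
  have hfE := finite_E Q
  have hfV : Finite V := finite_X F V
  have hpos : 0 < Nat.card ↥(E Q) := Nat.card_pos
  by_cases hR : finrank F (RR x) ≤ 2
  · have hR0 := card_sub_ne C.hF (RR x) hR
    have hB1 := ncard_biUnion_bound (t := {v | v ∈ RR x ∧ v ≠ 0}) (Set.toFinite _)
      (fun b => NN Q u1 b ∪ NN Q u2 b ∪ NN Q (u1 + u2) b) (c := 135) (d := 2 * Nat.card ↥(E Q))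
      (fun b _ => three_bound C hN b)
    have hUc : (U : Set V).ncard ≤ 16 := card_sub C.hF U C.hU.le
    have hPc : (P : Set V).ncard ≤ 4 := card_sub C.hF P C.hP.le
    have hmul : {v | v ∈ RR x ∧ v ≠ 0}.ncard * (2 * Nat.card ↥(E Q)) ≤ 3 * (2 * Nat.card ↥(E Q)) :=
      Nat.mul_le_mul_right _ (by omega)
    by_cases h2 : r = 2 ∧ finrank F (RR x) = 2
    · obtain ⟨r0, hr0, hr00, hQr0⟩ := exists_sing C.hF hx (by rw [← h2.1]; exact hxr) h2.2
      set Z : Set V := {v | v ≠ 0 ∧ Q v = 0 ∧ ∃ w, (w = u1 ∨ w = u2 ∨ w = u1 + u2) ∧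
        ((∃ p ∈ P, v = p ∨ v = p + w) ∨ (∃ u ∈ U, v = u ∨ v = u + w))} with hZ
      have hZs : Z ⊆ {u | u ∈ U ∧ u ≠ 0 ∧ Q u = 0} ∪ (fun v => v + u1) '' (U : Set V) ∪
          (fun v => v + u2) '' (U : Set V) ∪ (fun v => v + (u1 + u2)) '' (U : Set V) ∪
          (fun v => v + (u1 + u2)) '' (P : Set V) := by
        rintro v ⟨hv0, hQv, w, hw, h | h⟩
        · obtain ⟨p, hp, h⟩ := h
          have hp0 : Q p = 0 → p = 0 := by
            intro h1
            by_contra h2
            rw [C.QP p hp h2] at h1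
            exact one_ne_zero h1
          rcases h with h | h
          · exfalso
            rw [h] at hv0 hQv
            exact hv0 (hp0 hQv)
          · rcases hw with rfl | rfl | rfl
            · have h1 : p = 0 := by
                apply hp0
                rw [h, Q_add, C.hyp.left, polar_comm, C.P1 p hp, add_zero, add_zero] at hQv
                exact hQv
              rw [h1] at h
              exact Or.inl (Or.inl (Or.inl (Or.inr ⟨0, U.zero_mem, h.symm⟩)))
            · have h1 : p = 0 := by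
                apply hp0
                rw [h, Q_add, C.hyp.right, polar_comm, C.P2 p hp, add_zero, add_zero] at hQv
                exact hQv
              rw [h1] at h
              exact Or.inl (Or.inl (Or.inr ⟨0, U.zero_mem, h.symm⟩))
            · exact Or.inr ⟨p, hp, h.symm⟩
        · obtain ⟨u, hu, h⟩ := h
          rcases h with h | h
          · exact Or.inl (Or.inl (Or.inl (Or.inl ⟨h ▸ hu, hv0, hQv⟩)))
          · rcases hw with rfl | rfl | rfl
            · exact Or.inl (Or.inl (Or.inl (Or.inr ⟨u, hu, h.symm⟩)))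
            · exact Or.inl (Or.inl (Or.inr ⟨u, hu, h.symm⟩))
            · exact Or.inl (Or.inr ⟨u, hu, h.symm⟩)
      have hZc : Z.ncard ≤ 57 := by
        refine (Set.ncard_le_ncard hZs (Set.toFinite _)).trans ?_
        have e1 := Set.ncard_union_le ({u | u ∈ U ∧ u ≠ 0 ∧ Q u = 0} ∪ (fun v => v + u1) '' (U : Set V) ∪
          (fun v => v + u2) '' (U : Set V) ∪ (fun v => v + (u1 + u2)) '' (U : Set V))
          ((fun v => v + (u1 + u2)) '' (P : Set V))
        have e2 := Set.ncard_union_le ({u | u ∈ U ∧ u ≠ 0 ∧ Q u = 0} ∪ (fun v => v + u1) '' (U : Set V) ∪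
          (fun v => v + u2) '' (U : Set V)) ((fun v => v + (u1 + u2)) '' (U : Set V))
        have e3 := Set.ncard_union_le ({u | u ∈ U ∧ u ≠ 0 ∧ Q u = 0} ∪ (fun v => v + u1) '' (U : Set V))
          ((fun v => v + u2) '' (U : Set V))
        have e4 := Set.ncard_union_le ({u | u ∈ U ∧ u ≠ 0 ∧ Q u = 0}) ((fun v => v + u1) '' (U : Set V))
        have f1 := ncard_image_add U u1 hUc
        have f2 := ncard_image_add U u2 hUc
        have f3 := ncard_image_add U (u1 + u2) hUc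
        have f4 := ncard_image_add P (u1 + u2) hPc
        have f5 := C.QU
        omega
      have hB2 := ncard_biUnion_bound (t := Z) (Set.toFinite _) (fun v => NN Q v r0) (c := 135)
        (d := Nat.card ↥(E Q)) (fun v hv => hN.sing r0 hv.1 hv.2.1)
      have hmul2 : Z.ncard * Nat.card ↥(E Q) ≤ 57 * Nat.card ↥(E Q) := Nat.mul_le_mul_right _ hZc
      refine ⟨(⋃ b ∈ {v | v ∈ RR x ∧ v ≠ 0}, (NN Q u1 b ∪ NN Q u2 b ∪ NN Q (u1 + u2) b)) ∪ ⋃ v ∈ Z, NN Q v r0,
        ?_, ?_⟩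
      · intro g hg
        obtain ⟨w, hw, hxw, h⟩ := bad_w C hg
        rcases h r hr hxr hR with h | h | h
        · left
          exact Set.mem_biUnion (x := (g : V ≃ₗ[F] V) w) ⟨h, app_ne (w_ne C hw)⟩ (three_mem hw rfl)
        · right
          obtain ⟨p, hp, hv⟩ := h r0 hr0
          rcases hv with hv | hv
          · refine Set.mem_biUnion (x := p) ⟨?_, ?_, w, hw, Or.inl ⟨p, hp, Or.inl rfl⟩⟩ hv.symm
            · rintro rfl
              exact hr00 (by rw [hv, map_zero])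
            · rw [← Qmap g.2 p, ← hv, hQr0]
          · refine Set.mem_biUnion (x := p + w) ⟨?_, ?_, w, hw, Or.inl ⟨p, hp, Or.inr rfl⟩⟩ hv.symm
            · intro h0
              exact hr00 (by rw [hv, h0, map_zero])
            · rw [← Qmap g.2 (p + w), ← hv, hQr0]
        · right
          obtain ⟨p, hp, hv⟩ := h.2.2 r0 hr0
          rcases hv with hv | hv
          · refine Set.mem_biUnion (x := p) ⟨?_, ?_, w, hw, Or.inr ⟨p, hp, Or.inl rfl⟩⟩ hv.symm
            · rintro rfl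
              exact hr00 (by rw [hv, map_zero])
            · rw [← Qmap g.2 p, ← hv, hQr0]
          · refine Set.mem_biUnion (x := p + w) ⟨?_, ?_, w, hw, Or.inr ⟨p, hp, Or.inr rfl⟩⟩ hv.symm
            · intro h0
              exact hr00 (by rw [hv, h0, map_zero])
            · rw [← Qmap g.2 (p + w), ← hv, hQr0]
      · have h3 := Set.ncard_union_le (⋃ b ∈ {v | v ∈ RR x ∧ v ≠ 0}, (NN Q u1 b ∪ NN Q u2 b ∪ NN Q (u1 + u2) b))
          (⋃ v ∈ Z, NN Q v r0)
        omega
    · have hex : ∃ r0 ∈ RR x, r0 ≠ 0 := by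
        by_contra hcon
        push Not at hcon
        apply hx1
        refine LinearEquiv.ext fun v => ?_
        exact sub_eq_zero.1 (hcon _ (mem_RR.2 ⟨v, rfl⟩))
      obtain ⟨r0, hr0, hr00⟩ := hex
      set T : Set V := {v | v ≠ 0 ∧ ∃ w, (w = u1 ∨ w = u2 ∨ w = u1 + u2) ∧ (∃ p ∈ P, v = p ∨ v = p + w)} with hT
      have hTs : T ⊆ (P : Set V) ∪ (fun v => v + u1) '' (P : Set V) ∪
          (fun v => v + u2) '' (P : Set V) ∪ (fun v => v + (u1 + u2)) '' (P : Set V) := by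
        rintro v ⟨hv0, w, hw, p, hp, h⟩
        rcases h with h | h
        · exact Or.inl (Or.inl (Or.inl (h ▸ hp)))
        · rcases hw with rfl | rfl | rfl
          · exact Or.inl (Or.inl (Or.inr ⟨p, hp, h.symm⟩))
          · exact Or.inl (Or.inr ⟨p, hp, h.symm⟩)
          · exact Or.inr ⟨p, hp, h.symm⟩
      have hTc : T.ncard ≤ 16 := by
        refine (Set.ncard_le_ncard hTs (Set.toFinite _)).trans ?_
        have e2 := Set.ncard_union_le ((P : Set V) ∪ (fun v => v + u1) '' (P : Set V) ∪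
          (fun v => v + u2) '' (P : Set V)) ((fun v => v + (u1 + u2)) '' (P : Set V))
        have e3 := Set.ncard_union_le ((P : Set V) ∪ (fun v => v + u1) '' (P : Set V))
          ((fun v => v + u2) '' (P : Set V))
        have e4 := Set.ncard_union_le (P : Set V) ((fun v => v + u1) '' (P : Set V))
        have f1 := ncard_image_add P u1 hPc
        have f2 := ncard_image_add P u2 hPc
        have f3 := ncard_image_add P (u1 + u2) hPc
        omega
      have hB2 := ncard_biUnion_bound (t := T) (Set.toFinite _) (fun v => NN Q v r0) (c := 135)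
        (d := 2 * Nat.card ↥(E Q)) (fun v hv => hN.any C.hF r0 hv.1)
      have hmul2 : T.ncard * (2 * Nat.card ↥(E Q)) ≤ 16 * (2 * Nat.card ↥(E Q)) := Nat.mul_le_mul_right _ hTc
      refine ⟨(⋃ b ∈ {v | v ∈ RR x ∧ v ≠ 0}, (NN Q u1 b ∪ NN Q u2 b ∪ NN Q (u1 + u2) b)) ∪ ⋃ v ∈ T, NN Q v r0,
        ?_, ?_⟩
      · intro g hg
        obtain ⟨w, hw, hxw, h⟩ := bad_w C hg
        rcases h r hr hxr hR with h | h | h
        · left
          exact Set.mem_biUnion (x := (g : V ≃ₗ[F] V) w) ⟨h, app_ne (w_ne C hw)⟩ (three_mem hw rfl)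
        · right
          obtain ⟨p, hp, hv⟩ := h r0 hr0
          rcases hv with hv | hv
          · refine Set.mem_biUnion (x := p) ⟨?_, w, hw, p, hp, Or.inl rfl⟩ hv.symm
            rintro rfl
            exact hr00 (by rw [hv, map_zero])
          · refine Set.mem_biUnion (x := p + w) ⟨?_, w, hw, p, hp, Or.inr rfl⟩ hv.symm
            intro h0
            exact hr00 (by rw [hv, h0, map_zero])
        · exact absurd ⟨h.1, h.2.1⟩ h2
      · have h3 := Set.ncard_union_le (⋃ b ∈ {v | v ∈ RR x ∧ v ≠ 0}, (NN Q u1 b ∪ NN Q u2 b ∪ NN Q (u1 + u2) b))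
          (⋃ v ∈ T, NN Q v r0)
        omega
  · have hker : finrank F ↥(LinearMap.ker ((x : V →ₗ[F] V) - 1)) ≤ 5 := by
      have h1 := LinearMap.finrank_range_add_finrank_ker ((x : V →ₗ[F] V) - 1)
      rw [C.dim] at h1
      have h2 : finrank F (RR x) = finrank F ↥(LinearMap.range ((x : V →ₗ[F] V) - 1)) := rfl
      omega
    have hC0 := card_sub_ne C.hF _ hker
    have hB1 := ncard_biUnion_bound (t := {v | v ∈ LinearMap.ker ((x : V →ₗ[F] V) - 1) ∧ v ≠ 0}) (Set.toFinite _)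
      (fun b => NN Q u1 b ∪ NN Q u2 b ∪ NN Q (u1 + u2) b) (c := 135) (d := 2 * Nat.card ↥(E Q))
      (fun b _ => three_bound C hN b)
    have hmul : {v | v ∈ LinearMap.ker ((x : V →ₗ[F] V) - 1) ∧ v ≠ 0}.ncard * (2 * Nat.card ↥(E Q)) ≤
      31 * (2 * Nat.card ↥(E Q)) := Nat.mul_le_mul_right _ (by omega)
    refine ⟨⋃ b ∈ {v | v ∈ LinearMap.ker ((x : V →ₗ[F] V) - 1) ∧ v ≠ 0},
      (NN Q u1 b ∪ NN Q u2 b ∪ NN Q (u1 + u2) b), ?_, ?_⟩
    · intro g hg
      obtain ⟨w, hw, hxw, h⟩ := bad_w C hg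
      refine Set.mem_biUnion (x := (g : V ≃ₗ[F] V) w) ⟨?_, app_ne (w_ne C hw)⟩ (three_mem hw rfl)
      rw [LinearMap.mem_ker, LinearMap.sub_apply, Module.End.one_apply, sub_eq_zero]
      exact hxw
    · omega

end Cfsg.Agent.H99.O8
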