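import Cfsg.Agent.H99.O8.Irr
import Cfsg.Agent.LieClassical.OrthTrans

/-!
# S3943, the row `Ω⁺₈(2)` (helper99): solvable subgroups of `O⁺₈(2)` containing an element of order 15 have a fixed vector
-/

set_option autoImplicit false
set_option linter.unusedSectionVars false

namespace Cfsg.Agent.H99.O8

open Module Subgroup QuadraticMap Cfsg.Agent.H518.DghpFix Cfsg.Agent.H99.AS Cfsg.Agent.LieClassical.OrthCore
  Cfsg.Agent.LieClassical.OrthTrans

universe u v w

variable {F : Type u} [Field F] [Fintype F] {V : Type v} [AddCommGroup V] [Module F V] [FiniteDimensional F V]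

/-- the element `yz` of order 15 and its decomposition of `V` -/
structure Cfg (Q : QuadraticForm F V) (y z : V ≃ₗ[F] V) (U P : Submodule F V) (u1 u2 : V) : Prop where
  hF : Fintype.card F = 2
  nondeg : Nondeg Q
  dim : finrank F V = 8
  hU : finrank F U = 4
  hP : finrank F P = 2
  yO : y ∈ O Q
  zO : z ∈ O Q
  y5 : y ^ 5 = 1
  z3 : z ^ 3 = 1
  yz : y * z = z * y
  yU : ∀ v, y v - v ∈ U
  yUf : ∀ u ∈ U, y u = u → u = 0
  yP : ∀ p ∈ P, y p = p
  y1 : y u1 = u1
  y2 : y u2 = u2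
  zP : ∀ v, z v - v ∈ P
  zPf : ∀ p ∈ P, z p = p → p = 0
  zU : ∀ u ∈ U, z u = u
  z1 : z u1 = u1
  z2 : z u2 = u2
  hyp : Hyp Q u1 u2
  UP : ∀ u ∈ U, ∀ p ∈ P, polar Q u p = 0
  U1 : ∀ u ∈ U, polar Q u1 u = 0
  U2 : ∀ u ∈ U, polar Q u2 u = 0
  P1 : ∀ p ∈ P, polar Q u1 p = 0
  P2 : ∀ p ∈ P, polar Q u2 p = 0
  top : ∀ v, ∃ u ∈ U, ∃ p ∈ P, ∃ a b : F, v = u + p + (a • u1 + b • u2)
  QP : ∀ p ∈ P, p ≠ 0 → Q p = 1
  QU : {u | u ∈ U ∧ u ≠ 0 ∧ Q u = 0}.ncard ≤ 5

theorem eq01 (hF : Fintype.card F = 2) (a : F) : a = 0 ∨ a = 1 := by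
  classical
  by_contra h
  push Not at h
  have h1 : ({0, 1, a} : Finset F).card ≤ Fintype.card F := Finset.card_le_univ _
  have h2 : ({0, 1, a} : Finset F).card = 3 := by
    rw [Finset.card_eq_three]
    exact ⟨0, 1, a, zero_ne_one, h.1.symm, h.2.symm, rfl⟩
  omega

theorem two_zero (hF : Fintype.card F = 2) : (2 : F) = 0 := two_eq_zero (natCard hF)

theorem neg_eq (hF : Fintype.card F = 2) (v : V) : -v = v := by
  rw [neg_eq_iff_add_eq_zero, ← two_smul F v, two_zero hF, zero_smul]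

theorem self_add (hF : Fintype.card F = 2) (v : V) : v + v = 0 := by
  rw [← two_smul F v, two_zero hF, zero_smul]

variable {Q : QuadraticForm F V} {y z : V ≃ₗ[F] V} {U P : Submodule F V} {u1 u2 : V}

theorem polar_self0 (hF : Fintype.card F = 2) (v : V) : polar Q v v = 0 := by
  rw [polar_self', two_zero hF, zero_mul]

namespace Cfg

variable (C : Cfg Q y z U P u1 u2)
include C

theorem polar1 {u p : V} (hu : u ∈ U) (hp : p ∈ P) (a b : F) : polar Q u1 (u + p + (a • u1 + b • u2)) = b := by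
  rw [polar_add_right, polar_add_right, polar_add_right, polar_smul_right, polar_smul_right, C.U1 u hu, C.P1 p hp,
    C.hyp.polar_left, C.hyp.pair, smul_eq_mul, smul_eq_mul]
  ring

theorem polar2 {u p : V} (hu : u ∈ U) (hp : p ∈ P) (a b : F) : polar Q u2 (u + p + (a • u1 + b • u2)) = a := by
  rw [polar_add_right, polar_add_right, polar_add_right, polar_smul_right, polar_smul_right, C.U2 u hu, C.P2 p hp,
    C.hyp.polar_right, C.hyp.pair', smul_eq_mul, smul_eq_mul]
  ring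

theorem polarU {u u' p : V} (hu : u ∈ U) (hp : p ∈ P) (a b : F) :
    polar Q u (u' + p + (a • u1 + b • u2)) = polar Q u u' := by
  rw [polar_add_right, polar_add_right, polar_add_right, polar_smul_right, polar_smul_right, C.UP u hu p hp,
    polar_comm Q u u1, polar_comm Q u u2, C.U1 u hu, C.U2 u hu, smul_zero, smul_zero]
  ring

theorem polarP {u p' p : V} (hu : u ∈ U) (hp : p ∈ P) (a b : F) :
    polar Q p (u + p' + (a • u1 + b • u2)) = polar Q p p' := by
  rw [polar_add_right, polar_add_right, polar_add_right, polar_smul_right, polar_smul_right, polar_comm Q p u,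
    C.UP u hu p hp, polar_comm Q p u1, polar_comm Q p u2, C.P1 p hp, C.P2 p hp, smul_zero, smul_zero]
  ring

/-- `U` is nondegenerate -/
theorem ndU {u : V} (hu : u ∈ U) (h : ∀ u' ∈ U, polar Q u u' = 0) : u = 0 := by
  apply C.nondeg
  intro v
  obtain ⟨u', hu', p, hp, a, b, rfl⟩ := C.top v
  rw [C.polarU hu hp]
  exact h u' hu'

/-- `P` is nondegenerate -/
theorem ndP {p : V} (hp : p ∈ P) (h : ∀ p' ∈ P, polar Q p p' = 0) : p = 0 := by
  apply C.nondeg
  intro v
  obtain ⟨u, hu, p', hp', a, b, rfl⟩ := C.top v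
  rw [C.polarP hu hp]
  exact h p' hp'

theorem zero_of {u p : V} (hu : u ∈ U) (hp : p ∈ P) {a b : F} (h : u + p + (a • u1 + b • u2) = 0) :
    u = 0 ∧ p = 0 ∧ a = 0 ∧ b = 0 := by
  have hb := C.polar1 hu hp a b
  have ha := C.polar2 hu hp a b
  rw [h, polar_zero_right] at hb ha
  rw [← hb, ← ha, zero_smul, zero_smul, add_zero, add_zero] at h
  have hu0 : u = 0 := by
    apply C.ndU hu
    intro u' hu'
    rw [eq_neg_of_add_eq_zero_left h, polar_neg_left, polar_comm, C.UP u' hu' p hp, neg_zero]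
  rw [hu0, zero_add] at h
  exact ⟨hu0, h, ha.symm, hb.symm⟩

theorem inj_of {u p u' p' : V} (hu : u ∈ U) (hp : p ∈ P) (hu' : u' ∈ U) (hp' : p' ∈ P) {a b a' b' : F}
    (h : u + p + (a • u1 + b • u2) = u' + p' + (a' • u1 + b' • u2)) : u = u' ∧ p = p' ∧ a = a' ∧ b = b' := by
  have h1 : (u - u') + (p - p') + ((a - a') • u1 + (b - b') • u2) = 0 := by
    rw [sub_smul, sub_smul, ← sub_eq_zero.2 h]
    abel
  obtain ⟨e1, e2, e3, e4⟩ := C.zero_of (sub_mem hu hu') (sub_mem hp hp') h1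
  exact ⟨sub_eq_zero.1 e1, sub_eq_zero.1 e2, sub_eq_zero.1 e3, sub_eq_zero.1 e4⟩

theorem y_app {u p : V} (hp : p ∈ P) (a b : F) :
    y (u + p + (a • u1 + b • u2)) = y u + p + (a • u1 + b • u2) := by
  rw [map_add, map_add, map_add, map_smul, map_smul, C.yP p hp, C.y1, C.y2]

theorem z_app {u p : V} (hu : u ∈ U) (a b : F) :
    z (u + p + (a • u1 + b • u2)) = u + z p + (a • u1 + b • u2) := by
  rw [map_add, map_add, map_add, map_smul, map_smul, C.zU u hu, C.z1, C.z2]

theorem yU' {u : V} (hu : u ∈ U) : y u ∈ U := by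
  have := add_mem (C.yU u) hu
  rwa [sub_add_cancel] at this

theorem zP' {p : V} (hp : p ∈ P) : z p ∈ P := by
  have := add_mem (C.zP p) hp
  rwa [sub_add_cancel] at this

theorem y_fix_iff {u p : V} (hu : u ∈ U) (hp : p ∈ P) (a b : F) :
    y (u + p + (a • u1 + b • u2)) = u + p + (a • u1 + b • u2) ↔ u = 0 := by
  rw [C.y_app hp]
  constructor
  · intro h
    exact C.yUf u hu (C.inj_of (C.yU' hu) hp hu hp h).1
  · rintro rfl
    rw [map_zero]

theorem z_fix_iff {u p : V} (hu : u ∈ U) (hp : p ∈ P) (a b : F) :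
    z (u + p + (a • u1 + b • u2)) = u + p + (a • u1 + b • u2) ↔ p = 0 := by
  rw [C.z_app hu]
  constructor
  · intro h
    exact C.zPf p hp (C.inj_of hu (C.zP' hp) hu hp h).2.1
  · rintro rfl
    rw [map_zero]

/-- the two linear maps as units -/
theorem toUnit_app (g : V ≃ₗ[F] V) (v : V) :
    (((LinearMap.GeneralLinearGroup.generalLinearEquiv F V).symm g : (V →ₗ[F] V)ˣ) : V →ₗ[F] V) v = g v := rfl

theorem finrank_U_lt {W : Submodule F V} (hW : ∀ w ∈ W, y w ∈ W) {w : V} (hw : w ∈ W) (hne : y w ≠ w) : U ≤ W := by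
  have h5 : ((LinearMap.GeneralLinearGroup.generalLinearEquiv F V).symm y) ^ 5 = 1 := by
    rw [← map_pow, C.y5, map_one]
  rcases irr_of C.hF h5 C.hU (fun u hu => C.yUf u hu) (W ⊓ U) inf_le_right (fun v hv =>
    ⟨hW v hv.1, C.yU' hv.2⟩) with h | h
  · exfalso
    have h1 : y w - w ∈ W ⊓ U := ⟨sub_mem (hW w hw) hw, C.yU w⟩
    rw [h, Submodule.mem_bot, sub_eq_zero] at h1
    exact hne h1
  · rw [← h]; exact inf_le_left

theorem finrank_P_lt {W : Submodule F V} (hW : ∀ w ∈ W, z w ∈ W) {w : V} (hw : w ∈ W) (hne : z w ≠ w) : P ≤ W := by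
  have h3 : ((LinearMap.GeneralLinearGroup.generalLinearEquiv F V).symm z) ^ 3 = 1 := by
    rw [← map_pow, C.z3, map_one]
  by_cases hlt : finrank F ↥(W ⊓ P) < 2
  · exfalso
    have h1 : z w - w ∈ W ⊓ P := ⟨sub_mem (hW w hw) hw, C.zP w⟩
    have h2 := fix_small (r := 3) (by norm_num) (by rw [C.hF]; norm_num) (e := 2) (by rw [C.hF]; exact ord_two_three)
      h3 (W ⊓ P) (fun v hv => ⟨hW v hv.1, C.zP' hv.2⟩) hlt _ h1
    exact hne (sub_eq_zero.1 (C.zPf _ h1.2 h2))
  · have h1 : W ⊓ P = P := Submodule.eq_of_le_of_finrank_le inf_le_right (by have := C.hP; omega)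
    rw [← h1]; exact inf_le_left

/-- components of vectors of an invariant subspace -/
theorem compU {W : Submodule F V} (hW : ∀ w ∈ W, y w ∈ W) {u p : V} (hu : u ∈ U) (hp : p ∈ P) {a b : F}
    (h : u + p + (a • u1 + b • u2) ∈ W) : u ∈ W ∧ (u = 0 ∨ U ≤ W) := by
  by_cases h1 : y (u + p + (a • u1 + b • u2)) = u + p + (a • u1 + b • u2)
  · rw [C.y_fix_iff hu hp] at h1
    rw [h1]
    exact ⟨W.zero_mem, Or.inl rfl⟩
  · have h2 := C.finrank_U_lt hW h h1
    exact ⟨h2 hu, Or.inr h2⟩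

theorem compP {W : Submodule F V} (hW : ∀ w ∈ W, z w ∈ W) {u p : V} (hu : u ∈ U) (hp : p ∈ P) {a b : F}
    (h : u + p + (a • u1 + b • u2) ∈ W) : p ∈ W ∧ (p = 0 ∨ P ≤ W) := by
  by_cases h1 : z (u + p + (a • u1 + b • u2)) = u + p + (a • u1 + b • u2)
  · rw [C.z_fix_iff hu hp] at h1
    rw [h1]
    exact ⟨W.zero_mem, Or.inl rfl⟩
  · have h2 := C.finrank_P_lt hW h h1
    exact ⟨h2 hp, Or.inr h2⟩

theorem compH {W : Submodule F V} (hy : ∀ w ∈ W, y w ∈ W) (hz : ∀ w ∈ W, z w ∈ W) {u p : V} (hu : u ∈ U) (hp : p ∈ P)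
    {a b : F} (h : u + p + (a • u1 + b • u2) ∈ W) : a • u1 + b • u2 ∈ W := by
  have h1 := sub_mem h (add_mem (C.compU hy hu hp h).1 (C.compP hz hu hp h).1)
  rwa [add_sub_cancel_left] at h1

/-- the radical of an invariant subspace is in `H` -/
theorem rad_mem {W : Submodule F V} (hy : ∀ w ∈ W, y w ∈ W) (hz : ∀ w ∈ W, z w ∈ W) {u p : V} (hu : u ∈ U) (hp : p ∈ P)
    {a b : F} (h : u + p + (a • u1 + b • u2) ∈ W)
    (hrad : ∀ w ∈ W, polar Q (u + p + (a • u1 + b • u2)) w = 0) : u = 0 ∧ p = 0 := by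
  constructor
  · rcases (C.compU hy hu hp h).2 with h1 | h1
    · exact h1
    · apply C.ndU hu
      intro u' hu'
      have h2 := hrad u' (h1 hu')
      rwa [polar_comm, C.polarU hu' hp, polar_comm] at h2
  · rcases (C.compP hz hu hp h).2 with h1 | h1
    · exact h1
    · apply C.ndP hp
      intro p' hp'
      have h2 := hrad p' (h1 hp')
      rwa [polar_comm, C.polarP hu hp', polar_comm] at h2

theorem hcases (a b : F) : a • u1 + b • u2 = 0 ∨ a • u1 + b • u2 = u1 ∨ a • u1 + b • u2 = u2 ∨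
    a • u1 + b • u2 = u1 + u2 := by
  rcases eq01 C.hF a with rfl | rfl <;> rcases eq01 C.hF b with rfl | rfl
  · left; rw [zero_smul, zero_smul, add_zero]
  · right; right; left; rw [zero_smul, zero_add, one_smul]
  · right; left; rw [zero_smul, add_zero, one_smul]
  · right; right; right; rw [one_smul, one_smul]

theorem ne12 : u1 ≠ u2 := by
  intro h
  have h1 := C.hyp.pair
  rw [← h, C.hyp.polar_left] at h1
  exact zero_ne_one h1

theorem ne_n : u1 + u2 ≠ 0 := by
  intro h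
  have h1 := C.hyp.pair
  rw [eq_neg_of_add_eq_zero_right h, polar_neg_right, C.hyp.polar_left, neg_zero] at h1
  exact zero_ne_one h1

theorem Qn : Q (u1 + u2) = 1 := by
  rw [Q_add, C.hyp.left, C.hyp.right, C.hyp.pair]
  ring

end Cfg

/-- the plane `H` -/
def HH (F : Type u) [Field F] {V : Type v} [AddCommGroup V] [Module F V] (u1 u2 : V) : Submodule F V :=
  Submodule.span F {u1, u2}

omit [Fintype F] [FiniteDimensional F V] in
theorem mem_HH {v : V} : v ∈ HH F u1 u2 ↔ ∃ a b : F, a • u1 + b • u2 = v := Submodule.mem_span_pair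

/-- the orthogonal complement -/
def perp (Q : QuadraticForm F V) (W : Submodule F V) : Submodule F V where
  carrier := {x | ∀ w ∈ W, polar Q w x = 0}
  zero_mem' := fun w _ => polar_zero_right Q w
  add_mem' := fun {a b} ha hb w hw => by rw [polar_add_right, ha w hw, hb w hw, add_zero]
  smul_mem' := fun c x hx w hw => by rw [polar_smul_right, hx w hw, smul_zero]

omit [Fintype F] [FiniteDimensional F V] in
theorem mem_perp {W : Submodule F V} {x : V} : x ∈ perp Q W ↔ ∀ w ∈ W, polar Q w x = 0 := Iff.rfl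

/-- restriction of a group of linear maps to an invariant subspace -/
def resM (M : Subgroup (V ≃ₗ[F] V)) (X : Submodule F V) (hX : ∀ m ∈ M, ∀ x ∈ X, m x ∈ X) : M →* (X →ₗ[F] X)ˣ where
  toFun m :=
    { val := ((m : V ≃ₗ[F] V) : V →ₗ[F] V).restrict (hX m m.2)
      inv := (((m⁻¹ : M) : V ≃ₗ[F] V) : V →ₗ[F] V).restrict (hX _ (m⁻¹).2)
      val_inv := LinearMap.ext fun x => Subtype.ext (LinearEquiv.apply_symm_apply (m : V ≃ₗ[F] V) x)
      inv_val := LinearMap.ext fun x => Subtype.ext (LinearEquiv.symm_apply_apply (m : V ≃ₗ[F] V) x) }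
  map_one' := Units.ext (LinearMap.ext fun _ => rfl)
  map_mul' _ _ := Units.ext (LinearMap.ext fun _ => rfl)

omit [Fintype F] [FiniteDimensional F V] in
theorem resM_apply (M : Subgroup (V ≃ₗ[F] V)) (X : Submodule F V) (hX : ∀ m ∈ M, ∀ x ∈ X, m x ∈ X) (m : M) (x : X) :
    (((resM M X hX m : X →ₗ[F] X) x : X) : V) = (m : V ≃ₗ[F] V) x := rfl

namespace Cfg

variable (C : Cfg Q y z U P u1 u2)
include C

theorem mem_PH {v : V} : v ∈ P ⊔ HH F u1 u2 ↔ y v = v := by
  constructor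
  · intro h
    obtain ⟨p, hp, h', hh, rfl⟩ := Submodule.mem_sup.1 h
    obtain ⟨a, b, rfl⟩ := mem_HH.1 hh
    rw [map_add, map_add, map_smul, map_smul, C.yP p hp, C.y1, C.y2]
  · intro h
    obtain ⟨u, hu, p, hp, a, b, rfl⟩ := C.top v
    rw [C.y_fix_iff hu hp] at h
    rw [h, zero_add]
    exact add_mem (Submodule.mem_sup_left hp) (Submodule.mem_sup_right (mem_HH.2 ⟨a, b, rfl⟩))

theorem mem_UH {v : V} : v ∈ U ⊔ HH F u1 u2 ↔ z v = v := by
  constructor
  · intro h
    obtain ⟨p, hp, h', hh, rfl⟩ := Submodule.mem_sup.1 h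
    obtain ⟨a, b, rfl⟩ := mem_HH.1 hh
    rw [map_add, map_add, map_smul, map_smul, C.zU p hp, C.z1, C.z2]
  · intro h
    obtain ⟨u, hu, p, hp, a, b, rfl⟩ := C.top v
    rw [C.z_fix_iff hu hp] at h
    rw [h, add_zero]
    exact add_mem (Submodule.mem_sup_left hu) (Submodule.mem_sup_right (mem_HH.2 ⟨a, b, rfl⟩))

theorem mem_H {v : V} : v ∈ HH F u1 u2 ↔ y v = v ∧ z v = v := by
  constructor
  · intro h
    exact ⟨C.mem_PH.1 (Submodule.mem_sup_right h), C.mem_UH.1 (Submodule.mem_sup_right h)⟩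
  · rintro ⟨h1, h2⟩
    obtain ⟨u, hu, p, hp, a, b, rfl⟩ := C.top v
    rw [C.y_fix_iff hu hp] at h1
    rw [C.z_fix_iff hu hp] at h2
    rw [h1, h2, zero_add, zero_add]
    exact mem_HH.2 ⟨a, b, rfl⟩

theorem H_cases {v : V} (hv : v ∈ HH F u1 u2) : v = 0 ∨ v = u1 ∨ v = u2 ∨ v = u1 + u2 := by
  obtain ⟨a, b, rfl⟩ := mem_HH.1 hv
  exact C.hcases a b

theorem finrank_H : finrank F (HH F u1 u2) = 2 := by
  have hli : LinearIndependent F ![u1, u2] := by
    rw [LinearIndependent.pair_iff]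
    intro a b h
    have h1 := C.zero_of (u := 0) (p := 0) U.zero_mem P.zero_mem (a := a) (b := b) (by rw [h]; simp)
    exact h1.2.2
  have h1 := finrank_span_eq_card hli
  have h2 : HH F u1 u2 = Submodule.span F (Set.range ![u1, u2]) := by
    rw [HH]
    congr 1
    simp [Matrix.range_cons, Set.pair_comm]
  rw [h2, h1]
  rfl

theorem finrank_PH : finrank F ↥(P ⊔ HH F u1 u2) = 4 := by
  have h1 := Submodule.finrank_sup_add_finrank_inf_eq P (HH F u1 u2)
  have h2 : P ⊓ HH F u1 u2 = ⊥ := by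
    rw [Submodule.eq_bot_iff]
    rintro v ⟨h2, h3⟩
    exact C.zPf v h2 (C.mem_H.1 h3).2
  rw [h2, finrank_bot, C.hP, C.finrank_H] at h1
  omega

theorem finrank_UH : finrank F ↥(U ⊔ HH F u1 u2) = 6 := by
  have h1 := Submodule.finrank_sup_add_finrank_inf_eq U (HH F u1 u2)
  have h2 : U ⊓ HH F u1 u2 = ⊥ := by
    rw [Submodule.eq_bot_iff]
    rintro v ⟨h2, h3⟩
    exact C.yUf v h2 (C.mem_H.1 h3).1
  rw [h2, finrank_bot, C.hU, C.finrank_H] at h1
  omega

theorem U_surj {u : V} (hu : u ∈ U) : ∃ w ∈ U, y w - w = u := by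
  have hinj : LinearMap.ker (((y : V →ₗ[F] V) - 1).restrict (p := U) (q := U) (fun v _ => C.yU v)) = ⊥ := by
    rw [LinearMap.ker_eq_bot']
    intro w hw
    have h1 := congrArg Subtype.val hw
    exact Subtype.ext (C.yUf w w.2 (sub_eq_zero.1 h1))
  obtain ⟨w, hw⟩ := (LinearMap.injective_iff_surjective.1 (LinearMap.ker_eq_bot.1 hinj)) ⟨u, hu⟩
  exact ⟨w, w.2, congrArg Subtype.val hw⟩

theorem P_surj {u : V} (hu : u ∈ P) : ∃ w ∈ P, z w - w = u := by
  have hinj : LinearMap.ker (((z : V →ₗ[F] V) - 1).restrict (p := P) (q := P) (fun v _ => C.zP v)) = ⊥ := by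
    rw [LinearMap.ker_eq_bot']
    intro w hw
    have h1 := congrArg Subtype.val hw
    exact Subtype.ext (C.zPf w w.2 (sub_eq_zero.1 h1))
  obtain ⟨w, hw⟩ := (LinearMap.injective_iff_surjective.1 (LinearMap.ker_eq_bot.1 hinj)) ⟨u, hu⟩
  exact ⟨w, w.2, congrArg Subtype.val hw⟩

theorem U_nd : ∃ x ∈ U, ∃ w ∈ U, polar Q x w ≠ 0 := by
  have : Nontrivial U := Module.nontrivial_of_finrank_pos (R := F) (by rw [C.hU]; norm_num)
  obtain ⟨x, hx⟩ := exists_ne (0 : U)
  by_contra hcon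
  push Not at hcon
  exact hx (Subtype.ext (C.ndU x.2 (fun u' hu' => hcon x x.2 u' hu')))

/-- **The minimal subspace is irreducible.** -/
theorem min_irr {M : Subgroup (V ≃ₗ[F] V)} (hMO : M ≤ O Q) (hy : y ∈ M) (hz : z ∈ M)
    (hno : ∀ w, (w = u1 ∨ w = u2 ∨ w = u1 + u2) → ¬ ∀ m ∈ M, m w = w) {X : Submodule F V}
    (hX : ∀ m ∈ M, ∀ x ∈ X, m x ∈ X) (h1 : u1 ∈ X) (h2 : u2 ∈ X)
    (hmin : ∀ W ≤ X, (∀ m ∈ M, ∀ x ∈ W, m x ∈ W) → u1 ∈ W → u2 ∈ W → W = X) (W : Submodule F V) (hWX : W ≤ X)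
    (hW : ∀ m ∈ M, ∀ x ∈ W, m x ∈ W) : W = ⊥ ∨ W = X := by
  have hWy : ∀ w ∈ W, y w ∈ W := hW y hy
  have hWz : ∀ w ∈ W, z w ∈ W := hW z hz
  by_cases hb : u1 ∈ W ∧ u2 ∈ W
  · exact Or.inr (hmin W hWX hW hb.1 hb.2)
  by_cases hw : ∃ w ∈ W, w = u1 ∨ w = u2 ∨ w = u1 + u2
  · exfalso
    obtain ⟨w, hwW, hw⟩ := hw
    have huniq : ∀ a b : F, a • u1 + b • u2 ∈ W → a • u1 + b • u2 = 0 ∨ a • u1 + b • u2 = w := by
      intro a b hab
      by_contra hcon
      push Not at hcon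
      apply hb
      have key : ∀ c d : V, c ∈ W → d ∈ W → (c = u1 ∨ c = u2 ∨ c = u1 + u2) → (d = u1 ∨ d = u2 ∨ d = u1 + u2) →
          c ≠ d → u1 ∈ W ∧ u2 ∈ W := by
        intro c d hc hd hc' hd' hne
        rcases hc' with rfl | rfl | rfl <;> rcases hd' with rfl | rfl | rfl
        · exact absurd rfl hne
        · exact ⟨hc, hd⟩
        · exact ⟨hc, by have := sub_mem hd hc; rwa [add_sub_cancel_left] at this⟩
        · exact ⟨hd, hc⟩
        · exact absurd rfl hne
        · exact ⟨by have := sub_mem hd hc; rwa [add_sub_cancel_right] at this, hc⟩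
        · exact ⟨hd, by have := sub_mem hc hd; rwa [add_sub_cancel_left] at this⟩
        · exact ⟨by have := sub_mem hc hd; rwa [add_sub_cancel_right] at this, hd⟩
        · exact absurd rfl hne
      refine key (a • u1 + b • u2) w hab hwW ?_ hw hcon.2
      rcases C.hcases a b with h | h
      · exact absurd h hcon.1
      · exact h
    have hwU : ∀ u ∈ U, polar Q w u = 0 := by
      intro u hu
      rcases hw with rfl | rfl | rfl
      · exact C.U1 u hu
      · exact C.U2 u hu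
      · rw [polar_add_left, C.U1 u hu, C.U2 u hu, add_zero]
    have hwP : ∀ u ∈ P, polar Q w u = 0 := by
      intro u hu
      rcases hw with rfl | rfl | rfl
      · exact C.P1 u hu
      · exact C.P2 u hu
      · rw [polar_add_left, C.P1 u hu, C.P2 u hu, add_zero]
    have hw0 : w ≠ 0 := by
      rcases hw with rfl | rfl | rfl
      · exact C.hyp.left_ne
      · exact C.hyp.right_ne
      · exact C.ne_n
    have hrad : ∀ v ∈ W, polar Q w v = 0 := by
      intro v hv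
      obtain ⟨u, hu, p, hp, a, b, rfl⟩ := C.top v
      have h3 := C.compH hWy hWz hu hp hv
      rw [polar_add_right, polar_add_right, hwU u hu, hwP p hp, zero_add, zero_add]
      rcases huniq a b h3 with h | h
      · rw [h, polar_zero_right]
      · rw [h, polar_self0 C.hF]
    apply hno w hw
    intro m hm
    have hmO := hMO hm
    obtain ⟨u, hu, p, hp, a, b, he⟩ := C.top (m w)
    have h3 : u + p + (a • u1 + b • u2) ∈ W := he ▸ hW m hm w hwW
    have h4 := C.rad_mem hWy hWz hu hp h3 (by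
      intro v hv
      rw [← he]
      have h5 := polar_map hmO w (m⁻¹ v)
      rw [show m (m⁻¹ v) = v from LinearEquiv.apply_symm_apply m v] at h5
      rw [h5]
      exact hrad _ (hW m⁻¹ (inv_mem hm) v hv))
    rw [h4.1, h4.2, zero_add, zero_add] at he h3
    rcases huniq a b h3 with h | h
    · exfalso
      rw [h] at he
      exact hw0 (m.injective (by rw [he, map_zero]))
    · rw [he, h]
  · left
    have hH0 : ∀ a b : F, a • u1 + b • u2 ∈ W → a • u1 + b • u2 = 0 := by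
      intro a b hab
      rcases C.hcases a b with h | h
      · exact h
      · exact absurd ⟨_, hab, h⟩ hw
    have hperp : ∀ v ∈ W, polar Q u1 v = 0 ∧ polar Q u2 v = 0 := by
      intro v hv
      obtain ⟨u, hu, p, hp, a, b, rfl⟩ := C.top v
      have h3 := hH0 a b (C.compH hWy hWz hu hp hv)
      constructor
      · rw [h3, polar_add_right, polar_add_right, C.U1 u hu, C.P1 p hp, polar_zero_right, add_zero, add_zero]
      · rw [h3, polar_add_right, polar_add_right, C.U2 u hu, C.P2 p hp, polar_zero_right, add_zero, add_zero]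
    have h3 : X ⊓ perp Q W = X := by
      refine hmin (X ⊓ perp Q W) inf_le_left ?_ ⟨h1, ?_⟩ ⟨h2, ?_⟩
      · intro m hm x hx
        refine ⟨hX m hm x hx.1, ?_⟩
        intro w hw
        have h5 := polar_map (hMO hm) (m⁻¹ w) x
        rw [show m (m⁻¹ w) = w from LinearEquiv.apply_symm_apply m w] at h5
        rw [h5]
        exact hx.2 _ (hW m⁻¹ (inv_mem hm) w hw)
      · intro w hw
        rw [polar_comm]
        exact (hperp w hw).1
      · intro w hw
        rw [polar_comm]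
        exact (hperp w hw).2
    rw [Submodule.eq_bot_iff]
    intro v hv
    obtain ⟨u, hu, p, hp, a, b, rfl⟩ := C.top v
    have h4 := C.rad_mem hWy hWz hu hp hv (by
      intro w hw
      have h5 : u + p + (a • u1 + b • u2) ∈ X ⊓ perp Q W := h3.symm ▸ hWX hv
      rw [polar_comm]
      exact h5.2 w hw)
    rw [h4.1, h4.2, zero_add, zero_add] at hv ⊢
    exact hH0 a b hv

theorem finrank_comap {X W : Submodule F V} (h : W ≤ X) : finrank F ↥(W.comap X.subtype) = finrank F W :=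
  (Submodule.comapSubtypeEquivOfLe h).finrank_eq

theorem resM_y5 {M : Subgroup (V ≃ₗ[F] V)} (hy : y ∈ M) {X : Submodule F V} (hX : ∀ m ∈ M, ∀ x ∈ X, m x ∈ X) :
    resM M X hX ⟨y, hy⟩ ^ 5 = 1 := by
  rw [← map_pow, show (⟨y, hy⟩ : M) ^ 5 = 1 from Subtype.ext C.y5, map_one]

theorem resM_z3 {M : Subgroup (V ≃ₗ[F] V)} (hz : z ∈ M) {X : Submodule F V} (hX : ∀ m ∈ M, ∀ x ∈ X, m x ∈ X) :
    resM M X hX ⟨z, hz⟩ ^ 3 = 1 := by
  rw [← map_pow, show (⟨z, hz⟩ : M) ^ 3 = 1 from Subtype.ext C.z3, map_one]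

theorem resM_Ur {M : Subgroup (V ≃ₗ[F] V)} (hy : y ∈ M) {X : Submodule F V} (hX : ∀ m ∈ M, ∀ x ∈ X, m x ∈ X)
    (hUX : U ≤ X) : U.comap X.subtype = LinearMap.range ((resM M X hX ⟨y, hy⟩ : X →ₗ[F] X) - 1) := by
  ext x
  constructor
  · intro hx
    obtain ⟨w, hw, he⟩ := C.U_surj hx
    exact ⟨⟨w, hUX hw⟩, Subtype.ext he⟩
  · rintro ⟨w, rfl⟩
    exact C.yU w

theorem resM_Pr {M : Subgroup (V ≃ₗ[F] V)} (hz : z ∈ M) {X : Submodule F V} (hX : ∀ m ∈ M, ∀ x ∈ X, m x ∈ X)
    (hPX : P ≤ X) : P.comap X.subtype = LinearMap.range ((resM M X hX ⟨z, hz⟩ : X →ₗ[F] X) - 1) := by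
  ext x
  constructor
  · intro hx
    obtain ⟨w, hw, he⟩ := C.P_surj hx
    exact ⟨⟨w, hPX hw⟩, Subtype.ext he⟩
  · rintro ⟨w, rfl⟩
    exact C.zP w

theorem resM_Uf {M : Subgroup (V ≃ₗ[F] V)} (hy : y ∈ M) {X : Submodule F V} (hX : ∀ m ∈ M, ∀ x ∈ X, m x ∈ X) :
    ∀ u ∈ U.comap X.subtype, (resM M X hX ⟨y, hy⟩ : X →ₗ[F] X) u = u → u = 0 := fun u hu h =>
  Subtype.ext (C.yUf u hu (congrArg Subtype.val h))

theorem resM_Pf {M : Subgroup (V ≃ₗ[F] V)} (hz : z ∈ M) {X : Submodule F V} (hX : ∀ m ∈ M, ∀ x ∈ X, m x ∈ X) :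
    ∀ u ∈ P.comap X.subtype, (resM M X hX ⟨z, hz⟩ : X →ₗ[F] X) u = u → u = 0 := fun u hu h =>
  Subtype.ext (C.zPf u hu (congrArg Subtype.val h))

theorem nd_comap {X : Submodule F V} (hUX : U ≤ X) : ∃ x ∈ U.comap X.subtype, ∃ w ∈ U.comap X.subtype,
    polar Q (x : V) w ≠ 0 := by
  obtain ⟨x, hx, w, hw, h⟩ := C.U_nd
  exact ⟨⟨x, hUX hx⟩, hx, ⟨w, hUX hw⟩, hw, h⟩

/-- **A solvable group of isometries containing `y` and `z` has a nonzero fixed vector in `H`.** -/
theorem fix_exists {M : Subgroup (V ≃ₗ[F] V)} [Finite M] (hsol : Group.IsSolvable M) (hMO : M ≤ O Q) (hy : y ∈ M)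
    (hz : z ∈ M) : ∃ w, (w = u1 ∨ w = u2 ∨ w = u1 + u2) ∧ ∀ m ∈ M, m w = w := by
  by_contra hcon
  push Not at hcon
  have hno : ∀ w, (w = u1 ∨ w = u2 ∨ w = u1 + u2) → ¬ ∀ m ∈ M, m w = w := by
    intro w hw h
    obtain ⟨m, hm, h1⟩ := hcon w hw
    exact h1 (h m hm)
  have hVf : Finite V := finite_X F V
  have hSf : Finite (Submodule F V) := Finite.of_injective (fun W : Submodule F V => (W : Set V)) SetLike.coe_injective
  have hne : ({X : Submodule F V | (∀ m ∈ M, ∀ x ∈ X, m x ∈ X) ∧ u1 ∈ X ∧ u2 ∈ X}).Nonempty :=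
    ⟨⊤, fun _ _ _ _ => Submodule.mem_top, Submodule.mem_top, Submodule.mem_top⟩
  obtain ⟨X, hXm⟩ := Set.Finite.exists_minimal (Set.toFinite _) hne
  obtain ⟨hX, h1, h2⟩ := hXm.1
  have hirr0 := C.min_irr hMO hy hz hno hX h1 h2 (fun W hWX hW h1' h2' => le_antisymm hWX (hXm.2 ⟨hW, h1', h2'⟩ hWX))
  have hirr : ∀ W : Submodule F X, (∀ m, ∀ w ∈ W, (resM M X hX m : X →ₗ[F] X) w ∈ W) → W = ⊥ ∨ W = ⊤ := by
    intro W hW
    rcases hirr0 (W.map X.subtype) (Submodule.map_subtype_le _ _) (by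
      rintro m hm _ ⟨w, hw, rfl⟩
      exact ⟨_, hW ⟨m, hm⟩ w hw, rfl⟩) with h | h
    · left
      exact Submodule.map_injective_of_injective X.subtype_injective (h.trans (Submodule.map_bot _).symm)
    · right
      rw [eq_top_iff]
      rintro ⟨x, hx⟩ _
      have hx' := hx
      rw [← h] at hx'
      obtain ⟨w, hw, he⟩ := hx'
      have : w = ⟨x, hx⟩ := Subtype.ext he
      rwa [← this]
  have hBf : ∀ (m : M) (x w : X), polar Q (((resM M X hX m : X →ₗ[F] X) x : X) : V)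
      (((resM M X hX m : X →ₗ[F] X) w : X) : V) = polar Q (x : V) w := fun m x w => polar_map (hMO m.2) x w
  have hBl : ∀ x w v : X, polar Q ((x + w : X) : V) (v : V) = polar Q (x : V) v + polar Q (w : V) v := fun x w v =>
    polar_add_left _ _ _ _
  have hBs : ∀ x w : X, polar Q (x : V) w = polar Q (w : V) x := fun x w => polar_comm _ _ _
  have hB0 : ∀ x : X, polar Q (x : V) x = 0 := fun x => polar_self0 C.hF _
  have hHX : HH F u1 u2 ≤ X := by
    intro v hv
    obtain ⟨a, b, rfl⟩ := mem_HH.1 hv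
    exact add_mem (X.smul_mem a h1) (X.smul_mem b h2)
  by_cases hyX : ∀ x ∈ X, y x = x
  · by_cases hzX : ∀ x ∈ X, z x = x
    · -- `X = H`
      apply hno (u1 + u2) (Or.inr (Or.inr rfl))
      intro m hm
      have h3 := hX m hm _ (add_mem h1 h2)
      have h4 : Q (m (u1 + u2)) = 1 := by rw [hMO hm (u1 + u2), C.Qn]
      rcases C.H_cases (C.mem_H.2 ⟨hyX _ h3, hzX _ h3⟩) with h | h | h | h
      · rw [h, QuadraticMap.map_zero] at h4
        exact absurd h4 zero_ne_one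
      · rw [h, C.hyp.left] at h4
        exact absurd h4 zero_ne_one
      · rw [h, C.hyp.right] at h4
        exact absurd h4 zero_ne_one
      · exact h
    · -- `X = P ⊔ H`
      push Not at hzX
      obtain ⟨x, hx, hxz⟩ := hzX
      have hPX : P ≤ X := C.finrank_P_lt (hX z hz) hx hxz
      have hXe : X = P ⊔ HH F u1 u2 := le_antisymm (fun v hv => C.mem_PH.2 (hyX v hv)) (sup_le hPX hHX)
      have hXd : finrank F X = 4 := by
        have := C.finrank_PH
        rwa [← hXe] at this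
      refine irr4 C.hF hXd hsol (resM M X hX) hirr (z := ⟨z, hz⟩) (C.resM_z3 hz hX) (P := P.comap X.subtype)
        (H := (HH F u1 u2).comap X.subtype) (by rw [C.finrank_comap hPX, C.hP]) (C.resM_Pf hz hX)
        (C.resM_Pr hz hX hPX) ?_ ?_ (u1 := ⟨u1, h1⟩) (u2 := ⟨u2, h2⟩) ?_ ?_ ?_ (fun x => Q (x : V)) C.hyp.left
        C.hyp.right C.Qn (fun h => C.hyp.left_ne (congrArg Subtype.val h)) (fun h => C.hyp.right_ne
        (congrArg Subtype.val h)) (fun h => C.ne12 (congrArg Subtype.val h)) (fun m x => hMO m.2 x)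
      · ext v
        constructor
        · intro hv
          exact Subtype.ext (C.mem_H.1 hv).2
        · intro hv
          exact C.mem_H.2 ⟨hyX v v.2, congrArg Subtype.val hv⟩
      · rw [eq_top_iff]
        rintro ⟨v, hv⟩ _
        have hv' := hv
        rw [hXe] at hv'
        obtain ⟨p, hp, h', hh, rfl⟩ := Submodule.mem_sup.1 hv'
        exact Submodule.mem_sup.2 ⟨⟨p, hPX hp⟩, hp, ⟨h', hHX hh⟩, hh, rfl⟩
      · intro w hw
        rcases C.H_cases hw with h | h | h | h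
        · exact Or.inl (Subtype.ext h)
        · exact Or.inr (Or.inl (Subtype.ext h))
        · exact Or.inr (Or.inr (Or.inl (Subtype.ext h)))
        · exact Or.inr (Or.inr (Or.inr (Subtype.ext h)))
      · exact mem_HH.2 ⟨1, 0, by simp⟩
      · exact mem_HH.2 ⟨0, 1, by simp⟩
  · push Not at hyX
    obtain ⟨x, hx, hxy⟩ := hyX
    have hUX : U ≤ X := C.finrank_U_lt (hX y hy) hx hxy
    by_cases hzX : ∀ x ∈ X, z x = x
    · -- `X = U ⊔ H`
      have hXe : X = U ⊔ HH F u1 u2 := le_antisymm (fun v hv => C.mem_UH.2 (hzX v hv)) (sup_le hUX hHX)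
      have hXd : finrank F X = 6 := by
        have := C.finrank_UH
        rwa [← hXe] at this
      refine irr6 C.hF hXd hsol (resM M X hX) hirr (y := ⟨y, hy⟩) (C.resM_y5 hy hX) (U := U.comap X.subtype)
        (Z := (HH F u1 u2).comap X.subtype) (by rw [C.finrank_comap hUX, C.hU]) (C.resM_Ur hy hX hUX)
        (C.resM_Uf hy hX) (by rw [C.finrank_comap hHX, C.finrank_H]) ?_ (fun x w => polar Q (x : V) w) hBl hBs hB0
        (C.nd_comap hUX) hBf
      ext v
      constructor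
      · intro hv
        exact Subtype.ext (C.mem_H.1 hv).1
      · intro hv
        exact C.mem_H.2 ⟨congrArg Subtype.val hv, hzX v v.2⟩
    · -- `X = V`
      push Not at hzX
      obtain ⟨x, hx, hxz⟩ := hzX
      have hPX : P ≤ X := C.finrank_P_lt (hX z hz) hx hxz
      have hXe : X = ⊤ := by
        rw [eq_top_iff]
        intro v _
        obtain ⟨u, hu, p, hp, a, b, rfl⟩ := C.top v
        exact add_mem (add_mem (hUX hu) (hPX hp)) (hHX (mem_HH.2 ⟨a, b, rfl⟩))
      have hXd : finrank F X = 8 := by rw [hXe, finrank_top, C.dim]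
      have hPHX : P ⊔ HH F u1 u2 ≤ X := sup_le hPX hHX
      refine irr8 C.hF hXd hsol (resM M X hX) hirr (y := ⟨y, hy⟩) (z := ⟨z, hz⟩) (C.resM_y5 hy hX) (C.resM_z3 hz hX)
        ?_ (U := U.comap X.subtype) (Z := (P ⊔ HH F u1 u2).comap X.subtype) (P := P.comap X.subtype)
        (H := (HH F u1 u2).comap X.subtype) (by rw [C.finrank_comap hUX, C.hU]) (C.resM_Ur hy hX hUX)
        (C.resM_Uf hy hX) (by rw [C.finrank_comap hPHX, C.finrank_PH]) ?_ ?_ (by rw [C.finrank_comap hPX, C.hP])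
        (by rw [C.finrank_comap hHX, C.finrank_H]) ?_ ?_ ?_ ?_ (fun x w => polar Q (x : V) w) hBl hBs hB0
        (C.nd_comap hUX) hBf
      · rw [← map_mul, ← map_mul]
        exact congrArg _ (Subtype.ext C.yz)
      · ext v
        constructor
        · intro hv
          exact Subtype.ext (C.mem_PH.1 hv)
        · intro hv
          exact C.mem_PH.2 (congrArg Subtype.val hv)
      · rw [eq_top_iff]
        rintro v _
        obtain ⟨u, hu, p, hp, a, b, he⟩ := C.top v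
        have h3 : p + (a • u1 + b • u2) ∈ P ⊔ HH F u1 u2 := add_mem (Submodule.mem_sup_left hp)
          (Submodule.mem_sup_right (mem_HH.2 ⟨a, b, rfl⟩))
        exact Submodule.mem_sup.2 ⟨⟨u, hUX hu⟩, hu, ⟨_, hPHX h3⟩, h3, Subtype.ext (by
          rw [he]
          show u + (p + (a • u1 + b • u2)) = _
          rw [add_assoc])⟩
      · ext v
        constructor
        · intro hv
          exact ⟨Submodule.mem_sup_right hv, Subtype.ext (C.mem_H.1 hv).2⟩
        · rintro ⟨hv1, hv2⟩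
          exact C.mem_H.2 ⟨C.mem_PH.1 hv1, congrArg Subtype.val hv2⟩
      · intro v hv
        obtain ⟨p, hp, h', hh, he⟩ := Submodule.mem_sup.1 hv
        exact Submodule.mem_sup.2 ⟨⟨p, hPX hp⟩, hp, ⟨h', hHX hh⟩, hh, Subtype.ext he⟩
      · intro w _
        exact C.zP w
      · intro p hp
        obtain ⟨w, hw, he⟩ := C.P_surj hp
        exact ⟨⟨w, hPX hw⟩, Submodule.mem_sup_left hw, Subtype.ext he⟩

end Cfg

end Cfsg.Agent.H99.O8
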