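import Cfsg.Agent.H99.O8.Rep
import Cfsg.Agent.H518.SUExc

/-!
# S3943, the row `Ω⁺₈(2)` (helper99): irreducible solvable linear groups containing elements of order 3 and 5
-/

set_option autoImplicit false
set_option linter.unusedSectionVars false

namespace Cfsg.Agent.H99.O8

open Module Subgroup Cfsg.Agent.H518.DghpFix Cfsg.Agent.H99.AS

universe u v w

variable {F : Type u} [Field F] [Fintype F] {X : Type v} [AddCommGroup X] [Module F X] [FiniteDimensional F X]

theorem card_units {n : ℕ} (hF : Fintype.card F = 2) (hX : finrank F X = n) :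
    Nat.card (X →ₗ[F] X)ˣ = ∏ i : Fin n, (2 ^ n - 2 ^ (i : ℕ)) := by
  have e : (X →ₗ[F] X)ˣ ≃* GL (Fin n) F :=
    Units.mapEquiv (LinearMap.toMatrixAlgEquiv (finBasisOfFinrankEq F X hX)).toMulEquiv
  rw [Nat.card_congr e.toEquiv, Matrix.card_GL_field, hF]

theorem card_units4 (hF : Fintype.card F = 2) (hX : finrank F X = 4) : Nat.card (X →ₗ[F] X)ˣ = 20160 := by
  rw [card_units hF hX]; decide

theorem card_units6 (hF : Fintype.card F = 2) (hX : finrank F X = 6) : Nat.card (X →ₗ[F] X)ˣ = 20158709760 := by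
  rw [card_units hF hX]
  simp only [Fin.prod_univ_succ, Fin.prod_univ_zero]
  norm_num

theorem card_units8 (hF : Fintype.card F = 2) (hX : finrank F X = 8) :
    Nat.card (X →ₗ[F] X)ˣ = 5348063769211699200 := by
  rw [card_units hF hX]
  simp only [Fin.prod_univ_succ, Fin.prod_univ_zero]
  norm_num

/-- restriction of a unit to an invariant subspace -/
def resU (W : Submodule F X) (g : (X →ₗ[F] X)ˣ) (h : ∀ w ∈ W, (g : X →ₗ[F] X) w ∈ W)
    (h' : ∀ w ∈ W, ((g⁻¹ : (X →ₗ[F] X)ˣ) : X →ₗ[F] X) w ∈ W) : (W →ₗ[F] W)ˣ where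
  val := (g : X →ₗ[F] X).restrict h
  inv := ((g⁻¹ : (X →ₗ[F] X)ˣ) : X →ₗ[F] X).restrict h'
  val_inv := LinearMap.ext fun w => Subtype.ext (app_inv g w)
  inv_val := LinearMap.ext fun w => Subtype.ext (inv_app g w)

theorem resU_apply (W : Submodule F X) (g : (X →ₗ[F] X)ˣ) (h h') (w : W) :
    ((((resU W g h h' : (W →ₗ[F] W)ˣ) : W →ₗ[F] W) w : W) : X) = (g : X →ₗ[F] X) w := rfl

theorem ord_two_five : orderOf ((2 : ℕ) : ZMod 5) = 4 := by
  rw [orderOf_eq_iff (by norm_num)]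
  refine ⟨by decide, ?_⟩
  intro m hm h0
  have : m = 1 ∨ m = 2 ∨ m = 3 := by omega
  rcases this with rfl | rfl | rfl <;> decide

theorem ord_two_seven : orderOf ((2 : ℕ) : ZMod 7) = 3 := by
  rw [orderOf_eq_iff (by norm_num)]
  refine ⟨by decide, ?_⟩
  intro m hm h0
  have : m = 1 ∨ m = 2 := by omega
  rcases this with rfl | rfl <;> decide

theorem ord_two_17 : orderOf ((2 : ℕ) : ZMod 17) = 8 := by
  rw [orderOf_eq_iff (by norm_num)]
  refine ⟨by decide, ?_⟩
  intro m hm h0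
  have : m = 1 ∨ m = 2 ∨ m = 3 ∨ m = 4 ∨ m = 5 ∨ m = 6 ∨ m = 7 := by omega
  rcases this with rfl | rfl | rfl | rfl | rfl | rfl | rfl <;> decide

/-- an element of order `r` fixes small invariant subspaces -/
theorem fix_small {r : ℕ} (hr : r.Prime) (hrF : ¬ r ∣ Fintype.card F) {e : ℕ}
    (he : orderOf ((Fintype.card F : ℕ) : ZMod r) = e) {g : (X →ₗ[F] X)ˣ} (hg : g ^ r = 1) (W : Submodule F X)
    (hW : ∀ w ∈ W, (g : X →ₗ[F] X) w ∈ W) (hlt : finrank F W < e) : ∀ w ∈ W, (g : X →ₗ[F] X) w = w := by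
  have hg' : (g : X →ₗ[F] X) ^ r ^ 1 = 1 := by
    rw [pow_one, ← Units.val_pow_eq_pow_val, hg]; rfl
  have h1 := finrank_fix hr hrF hg' W hW
  rw [he] at h1
  have h2 : finrank F ↥(W ⊓ fixS (g : X →ₗ[F] X)) ≤ finrank F W := Submodule.finrank_mono inf_le_left
  have h3 : finrank F W - finrank F ↥(W ⊓ fixS (g : X →ₗ[F] X)) = 0 :=
    Nat.eq_zero_of_dvd_of_lt h1 (by omega)
  have h4 : W ⊓ fixS (g : X →ₗ[F] X) = W := Submodule.eq_of_le_of_finrank_eq inf_le_left (by omega)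
  intro w hw
  rw [← h4] at hw
  exact hw.2

/-- the data of an element `y` of order 5 acting irreducibly on `[X, y]` -/
theorem irr_of {g : (X →ₗ[F] X)ˣ} (hF : Fintype.card F = 2) (hg : g ^ 5 = 1) {U : Submodule F X}
    (hU : finrank F U = 4) (hUf : ∀ u ∈ U, (g : X →ₗ[F] X) u = u → u = 0) (W : Submodule F X) (hW : W ≤ U)
    (hWg : ∀ w ∈ W, (g : X →ₗ[F] X) w ∈ W) : W = ⊥ ∨ W = U := by
  have hg' : (g : X →ₗ[F] X) ^ 5 ^ 1 = 1 := by
    rw [pow_one, ← Units.val_pow_eq_pow_val, hg]; rfl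
  have h1 := finrank_fix (by norm_num) (by rw [hF]; norm_num) hg' W hWg
  have h2 : W ⊓ fixS (g : X →ₗ[F] X) = ⊥ := by
    rw [Submodule.eq_bot_iff]
    rintro w ⟨h3, h4⟩
    exact hUf w (hW h3) h4
  rw [h2, finrank_bot, Nat.sub_zero, hF, ord_two_five] at h1
  have h3 : finrank F W ≤ 4 := hU ▸ Submodule.finrank_mono hW
  obtain ⟨m, hm⟩ := h1
  rcases Nat.eq_zero_or_pos m with h | h
  · left
    rw [h, mul_zero] at hm
    exact Submodule.finrank_eq_zero.1 hm
  · right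
    exact Submodule.eq_of_le_of_finrank_eq hW (by omega)

variable {M : Type w} [Group M] [Finite M]

theorem natCard (hF : Fintype.card F = 2) : Nat.card F = 2 := by rw [Nat.card_eq_fintype_card, hF]

/-- the prime 3 -/
theorem no_three (hF : Fintype.card F = 2) [Finite X] [Nontrivial X] (f : M →* (X →ₗ[F] X)ˣ)
    (hirr : ∀ W : Submodule F X, (∀ m, ∀ w ∈ W, (f m : X →ₗ[F] X) w ∈ W) → W = ⊥ ∨ W = ⊤)
    {A : Subgroup (X →ₗ[F] X)ˣ} (hAf : A ≤ f.range)
    (hab : ∀ a ∈ A, ∀ b ∈ A, a * b = b * a) (h3 : ∀ a ∈ A, a ^ 3 = 1)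
    (hnA : ∀ m, ∀ a ∈ A, f m * a * (f m)⁻¹ ∈ A) (hfix : fixU A = ⊥) (hdim : finrank F X < 10)
    {y : M} (hy : f y ^ 5 = 1) {U : Submodule F X} (hU : finrank F U = 4)
    (hUr : U = LinearMap.range ((f y : X →ₗ[F] X) - 1))
    (hUf : ∀ u ∈ U, (f y : X →ₗ[F] X) u = u → u = 0) (B : X → X → F)
    (hBl : ∀ x y z, B (x + y) z = B x z + B y z) (hBs : ∀ x y, B x y = B y x) (hB0 : ∀ x, B x x = 0)
    (hB : ∃ x ∈ U, ∃ z ∈ U, B x z ≠ 0)
    (hBf : ∀ m x z, B ((f m : X →ₗ[F] X) x) ((f m : X →ₗ[F] X) z) = B x z) : False := by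
  have hcom := comm_five (natCard hF) hab h3 hfix f hirr hnA hy hdim
  have hUy : ∀ u ∈ U, (f y : X →ₗ[F] X) u ∈ U := by
    intro u hu
    rw [hUr] at hu ⊢
    obtain ⟨w, rfl⟩ := hu
    refine ⟨(f y : X →ₗ[F] X) w, ?_⟩
    rw [LinearMap.sub_apply, LinearMap.sub_apply, Module.End.one_apply, Module.End.one_apply, map_sub]
  have hUa : ∀ a ∈ A, ∀ u ∈ U, (a : X →ₗ[F] X) u ∈ U := by
    intro a ha u hu
    rw [hUr] at hu ⊢
    obtain ⟨w, rfl⟩ := hu
    refine ⟨(a : X →ₗ[F] X) w, ?_⟩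
    rw [LinearMap.sub_apply, LinearMap.sub_apply, Module.End.one_apply, Module.End.one_apply, map_sub, ← mul_app,
      hcom a ha, mul_app]
  -- each `a` is trivial on `U`
  have htriv : ∀ a ∈ A, ∀ u ∈ U, (a : X →ₗ[F] X) u = u := by
    intro a ha
    have hc : ∀ x, (f y : X →ₗ[F] X) ((a : X →ₗ[F] X) x) = (a : X →ₗ[F] X) ((f y : X →ₗ[F] X) x) := fun x => by
      rw [← mul_app, hcom a ha, mul_app]
    rcases irr_of hF hy hU hUf (U ⊓ fixS (a : X →ₗ[F] X)) inf_le_left (fun w hw => ⟨hUy w hw.1, by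
      show (a : X →ₗ[F] X) ((f y : X →ₗ[F] X) w) = (f y : X →ₗ[F] X) w
      rw [← hc, show (a : X →ₗ[F] X) w = w from hw.2]⟩) with h | h
    · exfalso
      have hcube : ∀ x, (a : X →ₗ[F] X) ((a : X →ₗ[F] X) ((a : X →ₗ[F] X) x)) = x := by
        intro w
        have : a * a * a = 1 := by rw [← pow_two, ← pow_succ, h3 a ha]
        rw [← mul_app, ← mul_app, this]; rfl
      have hquad : ∀ u ∈ U, (a : X →ₗ[F] X) ((a : X →ₗ[F] X) u) = (a : X →ₗ[F] X) u + u := by
        intro u hu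
        have hmem : (a : X →ₗ[F] X) ((a : X →ₗ[F] X) u) + (a : X →ₗ[F] X) u + u ∈ U ⊓ fixS (a : X →ₗ[F] X) := by
          refine ⟨Submodule.add_mem _ (Submodule.add_mem _ (hUa a ha _ (hUa a ha u hu)) (hUa a ha u hu)) hu, ?_⟩
          show (a : X →ₗ[F] X) ((a : X →ₗ[F] X) ((a : X →ₗ[F] X) u) + (a : X →ₗ[F] X) u + u) =
            (a : X →ₗ[F] X) ((a : X →ₗ[F] X) u) + (a : X →ₗ[F] X) u + u
          rw [map_add, map_add, hcube]
          abel
        rw [h, Submodule.mem_bot, add_assoc] at hmem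
        have e2 := add_self (natCard hF) ((a : X →ₗ[F] X) u + u)
        rw [← e2] at hmem
        exact add_right_cancel hmem
      have hUa' : ∀ u ∈ U, ((a⁻¹ : (X →ₗ[F] X)ˣ) : X →ₗ[F] X) u ∈ U := hUa a⁻¹ (inv_mem ha)
      have hUy' : ∀ u ∈ U, (((f y)⁻¹ : (X →ₗ[F] X)ˣ) : X →ₗ[F] X) u ∈ U := by
        intro u hu
        have e1 : (f y)⁻¹ = f y * f y * f y * f y := by
          symm
          apply eq_inv_of_mul_eq_one_left
          rw [← hy]; simp only [pow_succ, pow_zero, one_mul]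
        rw [e1]
        exact hUy _ (hUy _ (hUy _ (hUy u hu)))
      obtain ⟨x0, hx0, z0, hz0, hxz⟩ := hB
      obtain ⟨ma, hma⟩ := hAf ha
      refine no_torus (X := U) (natCard hF) hU (fun x z => B x z) (fun x z w => ?_) (fun x z => hBs x z)
        (fun x => hB0 x) ⟨⟨x0, hx0⟩, ⟨z0, hz0⟩, hxz⟩ (a := resU U a (hUa a ha) hUa') (y := resU U (f y) hUy hUy')
        ?_ ?_ ?_ ?_ ?_ ?_
      · exact hBl x z w
      · apply Units.ext
        refine LinearMap.ext fun x => Subtype.ext ?_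
        exact hc x
      · intro x
        exact Subtype.ext (hquad x x.2)
      · apply Units.ext
        refine LinearMap.ext fun x => Subtype.ext ?_
        have e1 : ∀ n : ℕ, ∀ x : U, (((resU U (f y) hUy hUy' ^ n : (U →ₗ[F] U)ˣ) : U →ₗ[F] U) x : X) =
            ((f y ^ n : (X →ₗ[F] X)ˣ) : X →ₗ[F] X) x := by
          intro n
          induction n with
          | zero => intro x; rfl
          | succ n ih =>
            intro x
            rw [pow_succ, pow_succ, mul_app, mul_app, ih]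
            rfl
        rw [e1, hy]
        rfl
      · intro x hx
        exact Subtype.ext (hUf x x.2 (congrArg Subtype.val hx))
      · intro x z
        show B ((a : X →ₗ[F] X) x) ((a : X →ₗ[F] X) z) = B x z
        rw [← hma]
        exact hBf ma x z
      · intro x z
        exact hBf y x z
    · intro u hu
      rw [← h] at hu
      exact hu.2
  have h1 : U ≤ fixU A := fun u hu a ha => htriv a ha u hu
  rw [hfix, le_bot_iff] at h1
  rw [h1, finrank_bot] at hU
  norm_num at hU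

theorem finite_units : Finite (X →ₗ[F] X)ˣ := by
  have : Finite F := Finite.of_fintype F
  have : Finite X := Module.finite_of_finite F
  have : Finite (X →ₗ[F] X) := Finite.of_injective (fun f : X →ₗ[F] X => (f : X → X)) DFunLike.coe_injective
  infer_instance

/-- abelian groups of exponent `t` whose order is small are centralised -/
theorem comm_of_card {t k p : ℕ} (ht : t.Prime) (hp : p.Prime) (htp : t ≠ p) {A : Subgroup (X →ₗ[F] X)ˣ}
    (hA : ∀ a ∈ A, a ^ t = 1) {g : (X →ₗ[F] X)ˣ} (hg : g ^ p = 1) (hgA : ∀ a ∈ A, g * a * g⁻¹ ∈ A)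
    (hcard : ¬ t ^ (k + 1) ∣ Nat.card (X →ₗ[F] X)ˣ) (h : ∀ j, 1 ≤ j → j ≤ k → ¬ p ∣ t ^ j - 1) :
    ∀ a ∈ A, g * a = a * g := by
  have hfin : Finite (X →ₗ[F] X)ˣ := finite_units
  have htf : Fact t.Prime := ⟨ht⟩
  have hpA : IsPGroup t A := fun a => ⟨1, Subtype.ext (by rw [pow_one]; exact hA a a.2)⟩
  obtain ⟨m, hm⟩ := IsPGroup.iff_card.1 hpA
  have hmk : m ≤ k := by
    by_contra hcon
    apply hcard
    have h1 : t ^ m ∣ Nat.card (X →ₗ[F] X)ˣ := hm ▸ Subgroup.card_subgroup_dvd_card A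
    exact (pow_dvd_pow t (by omega)).trans h1
  rcases (Nat.dvd_prime hp).1 (orderOf_dvd_of_pow_eq_one hg) with h1 | h1
  · rw [orderOf_eq_one_iff] at h1
    intro a _
    rw [h1, one_mul, mul_one]
  · exact cent_of_order hp h1 ht htp hm hgA fun j hj hj' => h j hj (hj'.trans hmk)

theorem finite_X (F : Type u) [Field F] [Fintype F] (X : Type v) [AddCommGroup X] [Module F X]
    [FiniteDimensional F X] : Finite X := by
  have : Finite F := Finite.of_fintype F
  exact Module.finite_of_finite F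

theorem prime_cases {t n : ℕ} (ht : t.Prime) (h : t ∣ n) : t ∈ n.primeFactors ∨ n = 0 := by
  by_cases hn : n = 0
  · exact Or.inr hn
  · exact Or.inl (Nat.mem_primeFactors.2 ⟨ht, h, hn⟩)

/-- `y` is not trivial -/
theorem nontriv {f : M →* (X →ₗ[F] X)ˣ} {y : M} {U : Submodule F X} (hU : finrank F U ≠ 0)
    (hUf : ∀ u ∈ U, (f y : X →ₗ[F] X) u = u → u = 0) : ∃ m, f m ≠ 1 := by
  refine ⟨y, fun h => hU ?_⟩
  have : U = ⊥ := by
    rw [Submodule.eq_bot_iff]
    intro u hu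
    exact hUf u hu (by rw [h]; rfl)
  rw [this, finrank_bot]

/-- **Dimension 6.** -/
theorem irr6 (hF : Fintype.card F = 2) (hX : finrank F X = 6) (hsol : Group.IsSolvable M) (f : M →* (X →ₗ[F] X)ˣ)
    (hirr : ∀ W : Submodule F X, (∀ m, ∀ w ∈ W, (f m : X →ₗ[F] X) w ∈ W) → W = ⊥ ∨ W = ⊤)
    {y : M} (hy : f y ^ 5 = 1) {U Z : Submodule F X} (hU : finrank F U = 4)
    (hUr : U = LinearMap.range ((f y : X →ₗ[F] X) - 1))
    (hUf : ∀ u ∈ U, (f y : X →ₗ[F] X) u = u → u = 0)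
    (hZ : finrank F Z = 2) (hZf : Z = fixS (f y : X →ₗ[F] X)) (B : X → X → F)
    (hBl : ∀ x y z, B (x + y) z = B x z + B y z) (hBs : ∀ x y, B x y = B y x) (hB0 : ∀ x, B x x = 0)
    (hB : ∃ x ∈ U, ∃ z ∈ U, B x z ≠ 0)
    (hBf : ∀ m x z, B ((f m : X →ₗ[F] X) x) ((f m : X →ₗ[F] X) z) = B x z) : False := by
  have hXf : Finite X := finite_X F X
  have hXn : Nontrivial X := Module.nontrivial_of_finrank_pos (R := F) (by omega)
  obtain ⟨t, ht, A, hAf, hA1, hab, hexp, hnA, hfix⟩ := exists_A hsol f hirr (nontriv (by rw [hU]; norm_num) hUf)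
  have h1 := prime_dvd ht hexp hfix
  have h2 : Nat.card X = 64 := by
    rw [Module.natCard_eq_pow_finrank (K := F), natCard hF, hX]; norm_num
  rw [h2] at h1
  have ht' : t = 3 ∨ t = 7 := by
    have h3 : t ∣ 3 ^ 2 * 7 := by rwa [show 3 ^ 2 * 7 = 64 - 1 by norm_num]
    rcases (ht.dvd_mul).1 h3 with h | h
    · exact Or.inl ((Nat.prime_dvd_prime_iff_eq ht (by norm_num)).1 (ht.dvd_of_dvd_pow h))
    · exact Or.inr ((Nat.prime_dvd_prime_iff_eq ht (by norm_num)).1 h)
  rcases ht' with rfl | rfl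
  · exact no_three hF f hirr hAf hab hexp hnA hfix (by omega) hy hU hUr hUf B hBl hBs hB0 hB hBf
  · have hcom := comm_of_card (k := 2) (p := 5) (by norm_num) (by norm_num) (by norm_num) hexp hy (hnA y)
      (by rw [card_units6 hF hX]; norm_num) (by
        intro j hj hj'
        interval_cases j <;> norm_num)
    have h3 : Z ≤ fixU A := by
      intro z hz a ha
      refine fix_small (r := 7) (by norm_num) (by rw [hF]; norm_num) (e := 3) (by rw [hF]; exact ord_two_seven)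
        (hexp a ha) Z (fun w hw => ?_) (by omega) z hz
      rw [hZf] at hw ⊢
      show (f y : X →ₗ[F] X) ((a : X →ₗ[F] X) w) = (a : X →ₗ[F] X) w
      rw [← mul_app, hcom a ha, mul_app]
      exact congrArg _ hw
    rw [hfix, le_bot_iff] at h3
    rw [h3, finrank_bot] at hZ
    norm_num at hZ

/-- 5-elements in dimension 4 -/
theorem mem_zpowers4 (hF : Fintype.card F = 2) (hX : finrank F X = 4) {g c : (X →ₗ[F] X)ˣ} (hg : g ^ 5 = 1)
    (hc : c ^ 5 = 1) (hc1 : c ≠ 1) (hgc : g * c = c * g) : g ∈ zpowers c := by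
  have hfin : Finite (X →ₗ[F] X)ˣ := finite_units
  by_cases hg1 : g = 1
  · rw [hg1]; exact one_mem _
  have hp5 : Fact (Nat.Prime 5) := ⟨by norm_num⟩
  exact Cfsg.Agent.H518.SU.comm_of_not_sq (r := 5) (by norm_num) (by rw [card_units4 hF hX]; norm_num) c g
    (orderOf_eq_prime hc hc1) (orderOf_eq_prime hg hg1) hgc.symm

/-- **Dimension 4, the normaliser of `⟨y⟩`.** -/
theorem norm5 (hF : Fintype.card F = 2) (hX : finrank F X = 4) (hsol : Group.IsSolvable M) (f : M →* (X →ₗ[F] X)ˣ)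
    {y : M} (hy : f y ^ 5 = 1) (hyf : ∀ u, (f y : X →ₗ[F] X) u = u → u = 0) (B : X → X → F)
    (hBl : ∀ x y z, B (x + y) z = B x z + B y z) (hBs : ∀ x y, B x y = B y x) (hB0 : ∀ x, B x x = 0)
    (hB : ∃ x z, B x z ≠ 0)
    (hBf : ∀ m x z, B ((f m : X →ₗ[F] X) x) ((f m : X →ₗ[F] X) z) = B x z) :
    ∀ m, f m * f y * (f m)⁻¹ ∈ zpowers (f y) := by
  have hXf : Finite X := finite_X F X
  have hXn : Nontrivial X := Module.nontrivial_of_finrank_pos (R := F) (by omega)
  have hfin : Finite (X →ₗ[F] X)ˣ := finite_units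
  have htop : finrank F (⊤ : Submodule F X) = 4 := by rw [finrank_top, hX]
  have hirr : ∀ W : Submodule F X, (∀ m, ∀ w ∈ W, (f m : X →ₗ[F] X) w ∈ W) → W = ⊥ ∨ W = ⊤ := fun W hW =>
    irr_of hF hy htop (fun u _ hu => hyf u hu) W le_top (hW y)
  have hr : (⊤ : Submodule F X) = LinearMap.range ((f y : X →ₗ[F] X) - 1) := by
    have h1 : LinearMap.ker ((f y : X →ₗ[F] X) - 1) = ⊥ := by
      rw [LinearMap.ker_eq_bot']
      intro u hu
      rw [LinearMap.sub_apply, Module.End.one_apply, sub_eq_zero] at hu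
      exact hyf u hu
    exact (LinearMap.range_eq_top.2 (LinearMap.injective_iff_surjective.1 (LinearMap.ker_eq_bot.1 h1))).symm
  obtain ⟨t, ht, A, hAf, hA1, hab, hexp, hnA, hfix⟩ := exists_A hsol f hirr
    (nontriv (U := ⊤) (by rw [htop]; norm_num) (fun u _ hu => hyf u hu))
  have h1 := prime_dvd ht hexp hfix
  have h2 : Nat.card X = 16 := by
    rw [Module.natCard_eq_pow_finrank (K := F), natCard hF, hX]; norm_num
  rw [h2] at h1
  have ht' : t = 3 ∨ t = 5 := by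
    have h3 : t ∣ 3 * 5 := by rwa [show 3 * 5 = 16 - 1 by norm_num]
    rcases (ht.dvd_mul).1 h3 with h | h
    · exact Or.inl ((Nat.prime_dvd_prime_iff_eq ht (by norm_num)).1 h)
    · exact Or.inr ((Nat.prime_dvd_prime_iff_eq ht (by norm_num)).1 h)
  rcases ht' with rfl | rfl
  · obtain ⟨x, z, hxz⟩ := hB
    exact (no_three hF f hirr hAf hab hexp hnA hfix (by omega) hy htop hr (fun u _ hu => hyf u hu) B hBl hBs hB0
      ⟨x, Submodule.mem_top, z, Submodule.mem_top, hxz⟩ hBf).elim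
  · -- `y` centralises a nontrivial element of `A`
    have hp5 : Fact (Nat.Prime 5) := ⟨by norm_num⟩
    have hpA : IsPGroup 5 A := fun a => ⟨1, Subtype.ext (by rw [pow_one]; exact hexp a a.2)⟩
    have hcent : ∃ c ∈ A, c ≠ 1 ∧ f y * c = c * f y := by
      have h3 := fix_modEq' (r := 5) (by norm_num) (y := f y) hy (S := (A : Set (X →ₗ[F] X)ˣ)) (hnA y)
      obtain ⟨k, hk⟩ := IsPGroup.iff_card.1 hpA
      have hk0 : k ≠ 0 := by
        rintro rfl
        exact hA1 (Subgroup.card_eq_one.1 (by rw [hk, pow_zero]))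
      have h4 : (A : Set (X →ₗ[F] X)ˣ).ncard = 5 ^ k := by rw [← hk]; rfl
      rw [h4] at h3
      have h5 : 5 ∣ {s | s ∈ (A : Set (X →ₗ[F] X)ˣ) ∧ f y * s = s * f y}.ncard :=
        (Nat.ModEq.dvd_iff h3 dvd_rfl).1 (dvd_pow_self 5 hk0)
      by_contra hcon
      push Not at hcon
      have h6 : {s | s ∈ (A : Set (X →ₗ[F] X)ˣ) ∧ f y * s = s * f y} = {1} := by
        ext s
        constructor
        · rintro ⟨hs1, hs2⟩
          by_contra hne
          exact hcon s hs1 hne hs2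
        · rintro rfl
          exact ⟨one_mem A, by rw [mul_one, one_mul]⟩
      rw [h6, Set.ncard_singleton] at h5
      norm_num at h5
    obtain ⟨c, hc, hc1, hyc⟩ := hcent
    have hyc' := mem_zpowers4 hF hX hy (hexp c hc) hc1 hyc
    have hyA : f y ∈ A := (zpowers_le.2 hc) hyc'
    intro m
    have h3 := hnA m _ hyA
    have hy1 : f y ≠ 1 := by
      intro h
      obtain ⟨z, hz⟩ := exists_ne (0 : X)
      exact hz (hyf z (by rw [h]; rfl))
    refine mem_zpowers4 hF hX ?_ hy hy1 (hab _ h3 _ hyA)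
    rw [conj_pow, hy]; group

theorem exists_cent {p : ℕ} (hp : p.Prime) {A : Subgroup (X →ₗ[F] X)ˣ} (hexp : ∀ a ∈ A, a ^ p = 1) (hA1 : A ≠ ⊥)
    {g : (X →ₗ[F] X)ˣ} (hg : g ^ p = 1) (hgA : ∀ a ∈ A, g * a * g⁻¹ ∈ A) : ∃ c ∈ A, c ≠ 1 ∧ g * c = c * g := by
  have hfin : Finite (X →ₗ[F] X)ˣ := finite_units
  have hpf : Fact p.Prime := ⟨hp⟩
  have hpA : IsPGroup p A := fun a => ⟨1, Subtype.ext (by rw [pow_one]; exact hexp a a.2)⟩
  have h3 := fix_modEq' (r := p) hp (y := g) hg (S := (A : Set (X →ₗ[F] X)ˣ)) hgA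
  obtain ⟨k, hk⟩ := IsPGroup.iff_card.1 hpA
  have hk0 : k ≠ 0 := by
    rintro rfl
    exact hA1 (Subgroup.card_eq_one.1 (by rw [hk, pow_zero]))
  have h4 : (A : Set (X →ₗ[F] X)ˣ).ncard = p ^ k := by rw [← hk]; rfl
  rw [h4] at h3
  have h5 : p ∣ {s | s ∈ (A : Set (X →ₗ[F] X)ˣ) ∧ g * s = s * g}.ncard :=
    (Nat.ModEq.dvd_iff h3 dvd_rfl).1 (dvd_pow_self p hk0)
  by_contra hcon
  push Not at hcon
  have h6 : {s | s ∈ (A : Set (X →ₗ[F] X)ˣ) ∧ g * s = s * g} = {1} := by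
    ext s
    constructor
    · rintro ⟨hs1, hs2⟩
      by_contra hne
      exact hcon s hs1 hne hs2
    · rintro rfl
      exact ⟨one_mem A, by rw [mul_one, one_mul]⟩
  rw [h6, Set.ncard_singleton] at h5
  exact hp.one_lt.ne' (Nat.dvd_one.1 h5)

theorem resU_pow (W : Submodule F X) (g : (X →ₗ[F] X)ˣ) (h h') (n : ℕ) (w : W) :
    ((((resU W g h h' ^ n : (W →ₗ[F] W)ˣ) : W →ₗ[F] W) w : W) : X) = ((g ^ n : (X →ₗ[F] X)ˣ) : X →ₗ[F] X) w := by
  induction n generalizing w with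
  | zero => rfl
  | succ n ih =>
    rw [pow_succ, pow_succ, mul_app, mul_app, ih]
    rfl

/-- **Dimension 8.** -/
theorem irr8 (hF : Fintype.card F = 2) (hX : finrank F X = 8) (hsol : Group.IsSolvable M) (f : M →* (X →ₗ[F] X)ˣ)
    (hirr : ∀ W : Submodule F X, (∀ m, ∀ w ∈ W, (f m : X →ₗ[F] X) w ∈ W) → W = ⊥ ∨ W = ⊤)
    {y z : M} (hy : f y ^ 5 = 1) (hz : f z ^ 3 = 1) (hyz : f y * f z = f z * f y)
    {U Z P H : Submodule F X} (hU : finrank F U = 4)
    (hUr : U = LinearMap.range ((f y : X →ₗ[F] X) - 1))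
    (hUf : ∀ u ∈ U, (f y : X →ₗ[F] X) u = u → u = 0)
    (hZ : finrank F Z = 4) (hZf : Z = fixS (f y : X →ₗ[F] X)) (hUZ : U ⊔ Z = ⊤)
    (hP : finrank F P = 2) (hH : finrank F H = 2) (hHf : H = Z ⊓ fixS (f z : X →ₗ[F] X))
    (hPH : Z ≤ P ⊔ H) (hPr : ∀ w ∈ Z, (f z : X →ₗ[F] X) w - w ∈ P)
    (hPs : ∀ p ∈ P, ∃ w ∈ Z, (f z : X →ₗ[F] X) w - w = p) (B : X → X → F)
    (hBl : ∀ x y z, B (x + y) z = B x z + B y z) (hBs : ∀ x y, B x y = B y x) (hB0 : ∀ x, B x x = 0)
    (hB : ∃ x ∈ U, ∃ z ∈ U, B x z ≠ 0)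
    (hBf : ∀ m x z, B ((f m : X →ₗ[F] X) x) ((f m : X →ₗ[F] X) z) = B x z) : False := by
  have hXf : Finite X := finite_X F X
  have hXn : Nontrivial X := Module.nontrivial_of_finrank_pos (R := F) (by omega)
  have hfin : Finite (X →ₗ[F] X)ˣ := finite_units
  obtain ⟨t, ht, A, hAf, hA1, hab, hexp, hnA, hfix⟩ := exists_A hsol f hirr (nontriv (by rw [hU]; norm_num) hUf)
  have h1 := prime_dvd ht hexp hfix
  have h2 : Nat.card X = 256 := by
    rw [Module.natCard_eq_pow_finrank (K := F), natCard hF, hX]; norm_num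
  rw [h2] at h1
  have ht' : t = 3 ∨ t = 5 ∨ t = 17 := by
    have h3 : t ∣ 3 * 5 * 17 := by rwa [show 3 * 5 * 17 = 256 - 1 by norm_num]
    rcases (ht.dvd_mul).1 h3 with h | h
    · rcases (ht.dvd_mul).1 h with h | h
      · exact Or.inl ((Nat.prime_dvd_prime_iff_eq ht (by norm_num)).1 h)
      · exact Or.inr (Or.inl ((Nat.prime_dvd_prime_iff_eq ht (by norm_num)).1 h))
    · exact Or.inr (Or.inr ((Nat.prime_dvd_prime_iff_eq ht (by norm_num)).1 h))
  -- `Z` is not fixed by `A`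
  have hnot : ¬ Z ≤ fixU A := by
    intro h
    rw [hfix, le_bot_iff] at h
    rw [h, finrank_bot] at hZ
    norm_num at hZ
  -- elements commuting with `y`
  have hcZ : ∀ c : (X →ₗ[F] X)ˣ, f y * c = c * f y → ∀ w ∈ Z, (c : X →ₗ[F] X) w ∈ Z := by
    intro c hc w hw
    rw [hZf] at hw ⊢
    show (f y : X →ₗ[F] X) ((c : X →ₗ[F] X) w) = (c : X →ₗ[F] X) w
    rw [← mul_app, hc, mul_app]
    exact congrArg _ hw
  have hcU : ∀ c : (X →ₗ[F] X)ˣ, f y * c = c * f y → ∀ w ∈ U, (c : X →ₗ[F] X) w ∈ U := by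
    intro c hc w hw
    rw [hUr] at hw ⊢
    obtain ⟨x, rfl⟩ := hw
    refine ⟨(c : X →ₗ[F] X) x, ?_⟩
    rw [LinearMap.sub_apply, LinearMap.sub_apply, Module.End.one_apply, Module.End.one_apply, map_sub, ← mul_app, hc,
      mul_app]
  have hinv : ∀ c : (X →ₗ[F] X)ˣ, f y * c = c * f y → f y * c⁻¹ = c⁻¹ * f y := by
    intro c hc
    have : Commute (f y) c := hc
    exact this.inv_right
  rcases ht' with rfl | rfl | rfl
  · exact no_three hF f hirr hAf hab hexp hnA hfix (by omega) hy hU hUr hUf B hBl hBs hB0 hB hBf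
  · -- the centraliser of `y` in `A`
    have key : ∀ c ∈ A, f y * c = c * f y → ∀ w ∈ Z, (c : X →ₗ[F] X) w = w := by
      -- `z` commutes with the action on `Z`
      have hzc : f y * f z = f z * f y := hyz
      let A' : Subgroup (Z →ₗ[F] Z)ˣ :=
        { carrier := {g | ∃ c ∈ A, f y * c = c * f y ∧ ∀ w : Z, (((g : Z →ₗ[F] Z) w : Z) : X) = (c : X →ₗ[F] X) w}
          one_mem' := ⟨1, one_mem A, by rw [mul_one, one_mul], fun w => rfl⟩
          mul_mem' := by
            rintro g g' ⟨c, hc, hc1, hc2⟩ ⟨c', hc', hc1', hc2'⟩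
            refine ⟨c * c', mul_mem hc hc', ?_, fun w => ?_⟩
            · rw [← mul_assoc, hc1, mul_assoc, hc1', mul_assoc]
            · rw [mul_app, hc2, hc2', mul_app]
          inv_mem' := by
            rintro g ⟨c, hc, hc1, hc2⟩
            refine ⟨c⁻¹, inv_mem hc, hinv c hc1, fun w => ?_⟩
            apply app_inj c
            rw [app_inv, ← hc2]
            exact congrArg Subtype.val (app_inv g w) }
      have hA' : ∀ g ∈ A', g ^ 5 = 1 := by
        rintro g ⟨c, hc, hc1, hc2⟩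
        have hpow : ∀ n : ℕ, ∀ w : Z, ((((g ^ n : (Z →ₗ[F] Z)ˣ) : Z →ₗ[F] Z) w : Z) : X) =
            ((c ^ n : (X →ₗ[F] X)ˣ) : X →ₗ[F] X) w := by
          intro n
          induction n with
          | zero => intro w; rfl
          | succ n ih => intro w; rw [pow_succ, pow_succ, mul_app, mul_app, ih, hc2]
        apply Units.ext
        refine LinearMap.ext fun w => Subtype.ext ?_
        rw [hpow, hexp c hc]; rfl
      have hzZ : ∀ w ∈ Z, (f z : X →ₗ[F] X) w ∈ Z := hcZ _ hyz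
      have hzZ' : ∀ w ∈ Z, (((f z)⁻¹ : (X →ₗ[F] X)ˣ) : X →ₗ[F] X) w ∈ Z := hcZ _ (hinv _ hyz)
      have hcomm := comm_of_card (X := Z) (k := 1) (t := 5) (p := 3) (by norm_num) (by norm_num) (by norm_num) hA'
        (g := resU Z (f z) hzZ hzZ') (by
          apply Units.ext
          refine LinearMap.ext fun w => Subtype.ext ?_
          rw [resU_pow, hz]; rfl) (by
          rintro g ⟨c, hc, hc1, hc2⟩
          refine ⟨f z * c * (f z)⁻¹, hnA z c hc, ?_, fun w => ?_⟩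
          · have e1 : Commute (f y) (f z) := hyz
            have e2 : Commute (f y) c := hc1
            exact (e1.mul_right e2).mul_right e1.inv_right
          · rw [mul_app, mul_app, mul_app, mul_app, resU_apply, hc2]
            rfl)
        (by rw [card_units4 hF hZ]; norm_num) (by
          intro j hj hj'
          have : j = 1 := by omega
          rw [this]; norm_num)
      intro c hc hyc
      have hcommZ : ∀ w ∈ Z, (f z : X →ₗ[F] X) ((c : X →ₗ[F] X) w) = (c : X →ₗ[F] X) ((f z : X →ₗ[F] X) w) := by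
        intro w hw
        have h3 := hcomm (resU Z c (hcZ c hyc) (hcZ _ (hinv c hyc))) ⟨c, hc, hyc, fun w => rfl⟩
        have h4 := congrArg (fun g : (Z →ₗ[F] Z)ˣ => (((g : Z →ₗ[F] Z) ⟨w, hw⟩ : Z) : X)) h3
        exact h4
      have hcP : ∀ w ∈ P, (c : X →ₗ[F] X) w = w := by
        refine fix_small (r := 5) (by norm_num) (by rw [hF]; norm_num) (e := 4) (by rw [hF]; exact ord_two_five)
          (hexp c hc) P (fun w hw => ?_) (by omega)
        obtain ⟨x, hx, rfl⟩ := hPs w hw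
        rw [map_sub, ← hcommZ x hx]
        exact hPr _ (hcZ c hyc x hx)
      have hcH : ∀ w ∈ H, (c : X →ₗ[F] X) w = w := by
        refine fix_small (r := 5) (by norm_num) (by rw [hF]; norm_num) (e := 4) (by rw [hF]; exact ord_two_five)
          (hexp c hc) H (fun w hw => ?_) (by omega)
        rw [hHf] at hw ⊢
        refine ⟨hcZ c hyc w hw.1, ?_⟩
        show (f z : X →ₗ[F] X) ((c : X →ₗ[F] X) w) = (c : X →ₗ[F] X) w
        rw [hcommZ w hw.1, show (f z : X →ₗ[F] X) w = w from hw.2]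
      intro w hw
      obtain ⟨a, ha, b, hb, rfl⟩ := Submodule.mem_sup.1 (hPH hw)
      rw [map_add, hcP a ha, hcH b hb]
    obtain ⟨c, hc, hc1, hyc⟩ := exists_cent (by norm_num) hexp hA1 hy (hnA y)
    have hcUne : resU U c (hcU c hyc) (hcU _ (hinv c hyc)) ≠ 1 := by
      intro h
      apply hc1
      apply Units.ext
      refine LinearMap.ext fun x => ?_
      obtain ⟨a, ha, b, hb, rfl⟩ := Submodule.mem_sup.1 (hUZ ▸ (Submodule.mem_top : x ∈ ⊤))
      have h3 : (c : X →ₗ[F] X) a = a :=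
        congrArg (fun g : (U →ₗ[F] U)ˣ => (((g : U →ₗ[F] U) ⟨a, ha⟩ : U) : X)) h
      rw [map_add, h3, key c hc hyc b hb]
      rfl
    have hyU : ∀ w ∈ U, (f y : X →ₗ[F] X) w ∈ U := hcU _ rfl
    have hyU' : ∀ w ∈ U, (((f y)⁻¹ : (X →ₗ[F] X)ˣ) : X →ₗ[F] X) w ∈ U := hcU _ (hinv _ rfl)
    have h3 := mem_zpowers4 (X := U) hF hU (g := resU U (f y) hyU hyU')
      (c := resU U c (hcU c hyc) (hcU _ (hinv c hyc))) (by
        apply Units.ext
        refine LinearMap.ext fun w => Subtype.ext ?_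
        rw [resU_pow, hy]; rfl) (by
        apply Units.ext
        refine LinearMap.ext fun w => Subtype.ext ?_
        rw [resU_pow, hexp c hc]; rfl) hcUne (by
        apply Units.ext
        refine LinearMap.ext fun w => Subtype.ext ?_
        show (f y : X →ₗ[F] X) ((c : X →ₗ[F] X) w) = (c : X →ₗ[F] X) ((f y : X →ₗ[F] X) w)
        rw [← mul_app, hyc, mul_app])
    have hfU : Finite (U →ₗ[F] U)ˣ := finite_units
    obtain ⟨n, hn⟩ := (mem_powers_iff_mem_zpowers.2 h3)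
    have hyA : f y ∈ A := by
      have h4 : c ^ n = f y := by
        apply Units.ext
        refine LinearMap.ext fun x => ?_
        obtain ⟨a, ha, b, hb, rfl⟩ := Submodule.mem_sup.1 (hUZ ▸ (Submodule.mem_top : x ∈ ⊤))
        have h5 : ((c ^ n : (X →ₗ[F] X)ˣ) : X →ₗ[F] X) a = (f y : X →ₗ[F] X) a := by
          have h6 := congrArg (fun g : (U →ₗ[F] U)ˣ => (((g : U →ₗ[F] U) ⟨a, ha⟩ : U) : X)) hn
          rw [← resU_pow U c (hcU c hyc) (hcU _ (hinv c hyc)) n ⟨a, ha⟩]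
          exact h6
        have h7 : (f y : X →ₗ[F] X) b = b := by
          rw [hZf] at hb
          exact hb
        rw [map_add, map_add, h5, h7, pow_app_fix (key c hc hyc b hb)]
      rw [← h4]
      exact pow_mem hc n
    exact hnot fun w hw a ha => key a ha (hab _ hyA _ ha) w hw
  · have hcom := comm_of_card (k := 1) (p := 5) (by norm_num) (by norm_num) (by norm_num) hexp hy (hnA y)
      (by rw [card_units8 hF hX]; norm_num) (by
        intro j hj hj'
        have : j = 1 := by omega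
        rw [this]; norm_num)
    exact hnot fun w hw a ha => fix_small (r := 17) (by norm_num) (by rw [hF]; norm_num) (e := 8)
        (by rw [hF]; exact ord_two_17) (hexp a ha) Z (hcZ a (hcom a ha)) (by omega) w hw

theorem ord_two_three : orderOf ((2 : ℕ) : ZMod 3) = 2 := by
  rw [orderOf_eq_iff (by norm_num)]
  refine ⟨by decide, ?_⟩
  intro m hm h0
  have : m = 1 := by omega
  rcases this with rfl
  decide

/-- an element of order 3 preserving the quadratic form on a hyperbolic plane is trivial on it -/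
theorem cube_triv {g : (X →ₗ[F] X)ˣ} (hg : g ^ 3 = 1) {H : Submodule F X} {u1 u2 : X}
    (hH : ∀ w ∈ H, w = 0 ∨ w = u1 ∨ w = u2 ∨ w = u1 + u2) (hu1 : u1 ∈ H) (hu2 : u2 ∈ H) (Q : X → F)
    (h1 : Q u1 = 0) (h2 : Q u2 = 0) (h12 : Q (u1 + u2) = 1) (h01 : u1 ≠ 0) (h02 : u2 ≠ 0) (hne : u1 ≠ u2)
    (hgH : ∀ w ∈ H, (g : X →ₗ[F] X) w ∈ H) (hQ : ∀ x, Q ((g : X →ₗ[F] X) x) = Q x) :
    ∀ w ∈ H, (g : X →ₗ[F] X) w = w := by
  have hzero : ∀ {x : X}, (g : X →ₗ[F] X) x = 0 → x = 0 := fun {x} h => app_inj g (by rw [h, map_zero])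
  have hQ12 : ∀ {x : X}, Q x = 0 → (g : X →ₗ[F] X) x ≠ u1 + u2 := by
    intro x hx h
    have := hQ x
    rw [h, h12, hx] at this
    exact one_ne_zero this
  have hcube : ∀ x, (g : X →ₗ[F] X) ((g : X →ₗ[F] X) ((g : X →ₗ[F] X) x)) = x := by
    intro w
    have : g * g * g = 1 := by rw [← pow_two, ← pow_succ, hg]
    rw [← mul_app, ← mul_app, this]; rfl
  have e1 : (g : X →ₗ[F] X) u1 = u1 := by
    rcases hH _ (hgH _ hu1) with h | h | h | h
    · exact absurd (hzero h) h01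
    · exact h
    · exfalso
      rcases hH _ (hgH _ hu2) with h' | h' | h' | h'
      · exact h02 (hzero h')
      · have := hcube u1
        rw [h, h', h] at this
        exact hne this.symm
      · exact hne (app_inj g (by rw [h, h']))
      · exact hQ12 h2 h'
    · exact absurd h (hQ12 h1)
  have e2 : (g : X →ₗ[F] X) u2 = u2 := by
    rcases hH _ (hgH _ hu2) with h | h | h | h
    · exact absurd (hzero h) h02
    · exact absurd (app_inj g (by rw [h, e1])) hne
    · exact h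
    · exact absurd h (hQ12 h2)
  intro w hw
  rcases hH w hw with rfl | rfl | rfl | rfl
  · exact map_zero _
  · exact e1
  · exact e2
  · rw [map_add, e1, e2]

/-- **Dimension 4, with an element of order 3.** -/
theorem irr4 (hF : Fintype.card F = 2) (hX : finrank F X = 4) (hsol : Group.IsSolvable M) (f : M →* (X →ₗ[F] X)ˣ)
    (hirr : ∀ W : Submodule F X, (∀ m, ∀ w ∈ W, (f m : X →ₗ[F] X) w ∈ W) → W = ⊥ ∨ W = ⊤)
    {z : M} (hz : f z ^ 3 = 1) {P H : Submodule F X} (hP : finrank F P = 2) (hPf : ∀ p ∈ P, (f z : X →ₗ[F] X) p = p → p = 0)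
    (hPr : P = LinearMap.range ((f z : X →ₗ[F] X) - 1)) (hHf : H = fixS (f z : X →ₗ[F] X)) (hPH : P ⊔ H = ⊤)
    {u1 u2 : X} (hH : ∀ w ∈ H, w = 0 ∨ w = u1 ∨ w = u2 ∨ w = u1 + u2) (hu1 : u1 ∈ H) (hu2 : u2 ∈ H) (Q : X → F)
    (h1 : Q u1 = 0) (h2 : Q u2 = 0) (h12 : Q (u1 + u2) = 1) (h01 : u1 ≠ 0) (h02 : u2 ≠ 0) (hne : u1 ≠ u2)
    (hQ : ∀ m, ∀ x, Q ((f m : X →ₗ[F] X) x) = Q x) : False := by
  have hXf : Finite X := finite_X F X
  have hXn : Nontrivial X := Module.nontrivial_of_finrank_pos (R := F) (by omega)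
  have hfin : Finite (X →ₗ[F] X)ˣ := finite_units
  obtain ⟨t, ht, A, hAf, hA1, hab, hexp, hnA, hfix⟩ := exists_A hsol f hirr (nontriv (by rw [hP]; norm_num) hPf)
  have h3 := prime_dvd ht hexp hfix
  have h4 : Nat.card X = 16 := by
    rw [Module.natCard_eq_pow_finrank (K := F), natCard hF, hX]; norm_num
  rw [h4] at h3
  have ht' : t = 3 ∨ t = 5 := by
    have h5 : t ∣ 3 * 5 := by rwa [show 3 * 5 = 16 - 1 by norm_num]
    rcases (ht.dvd_mul).1 h5 with h | h
    · exact Or.inl ((Nat.prime_dvd_prime_iff_eq ht (by norm_num)).1 h)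
    · exact Or.inr ((Nat.prime_dvd_prime_iff_eq ht (by norm_num)).1 h)
  have hnot : ¬ H ≤ fixU A := by
    intro h
    rw [hfix, le_bot_iff] at h
    rw [h, Submodule.mem_bot] at hu1
    exact h01 hu1
  have hQA : ∀ a ∈ A, ∀ x, Q ((a : X →ₗ[F] X) x) = Q x := by
    intro a ha x
    obtain ⟨m, rfl⟩ := hAf ha
    exact hQ m x
  have hcH : ∀ c : (X →ₗ[F] X)ˣ, f z * c = c * f z → ∀ w ∈ H, (c : X →ₗ[F] X) w ∈ H := by
    intro c hc w hw
    rw [hHf] at hw ⊢
    show (f z : X →ₗ[F] X) ((c : X →ₗ[F] X) w) = (c : X →ₗ[F] X) w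
    rw [← mul_app, hc, mul_app]
    exact congrArg _ hw
  rcases ht' with rfl | rfl
  · obtain ⟨c, hc, hc1, hzc⟩ := exists_cent (by norm_num) hexp hA1 hz (hnA z)
    have htriv := cube_triv (hexp c hc) hH hu1 hu2 Q h1 h2 h12 h01 h02 hne (hcH c hzc) (hQA c hc)
    -- `fixS c = H`
    have hzP : ∀ w ∈ P, (f z : X →ₗ[F] X) w ∈ P := by
      intro w hw
      rw [hPr] at hw ⊢
      obtain ⟨x, rfl⟩ := hw
      refine ⟨(f z : X →ₗ[F] X) x, ?_⟩
      rw [LinearMap.sub_apply, LinearMap.sub_apply, Module.End.one_apply, Module.End.one_apply, map_sub]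
    have hint : P ⊓ fixS (c : X →ₗ[F] X) = ⊥ := by
      have hzf : ∀ w ∈ P ⊓ fixS (c : X →ₗ[F] X), (f z : X →ₗ[F] X) w ∈ P ⊓ fixS (c : X →ₗ[F] X) := by
        rintro w ⟨hw1, hw2⟩
        refine ⟨hzP w hw1, ?_⟩
        show (c : X →ₗ[F] X) ((f z : X →ₗ[F] X) w) = (f z : X →ₗ[F] X) w
        rw [← mul_app, ← hzc, mul_app, show (c : X →ₗ[F] X) w = w from hw2]
      by_cases hlt : finrank F ↥(P ⊓ fixS (c : X →ₗ[F] X)) < 2
      · have h5 := fix_small (r := 3) (by norm_num) (by rw [hF]; norm_num) (e := 2) (by rw [hF]; exact ord_two_three)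
          hz _ hzf hlt
        rw [Submodule.eq_bot_iff]
        intro w hw
        exact hPf w hw.1 (h5 w hw)
      · exfalso
        apply hc1
        have h5 : P ⊓ fixS (c : X →ₗ[F] X) = P := Submodule.eq_of_le_of_finrank_le inf_le_left (by omega)
        apply Units.ext
        refine LinearMap.ext fun x => ?_
        obtain ⟨a, ha, b, hb, rfl⟩ := Submodule.mem_sup.1 (hPH ▸ (Submodule.mem_top : x ∈ ⊤))
        rw [← h5] at ha
        rw [map_add, show (c : X →ₗ[F] X) a = a from ha.2, htriv b hb]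
        rfl
    have hfc : ∀ x, (c : X →ₗ[F] X) x = x → x ∈ H := by
      intro x hx
      obtain ⟨a, ha, b, hb, rfl⟩ := Submodule.mem_sup.1 (hPH ▸ (Submodule.mem_top : x ∈ ⊤))
      rw [map_add, htriv b hb, add_left_inj] at hx
      have h5 : a ∈ P ⊓ fixS (c : X →ₗ[F] X) := ⟨ha, hx⟩
      rw [hint, Submodule.mem_bot] at h5
      rw [h5, zero_add]
      exact hb
    have hAH : ∀ a ∈ A, ∀ w ∈ H, (a : X →ₗ[F] X) w ∈ H := by
      intro a ha w hw
      apply hfc
      rw [← mul_app, hab c hc a ha, mul_app, htriv w hw]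
    exact hnot fun w hw a ha => cube_triv (hexp a ha) hH hu1 hu2 Q h1 h2 h12 h01 h02 hne (hAH a ha) (hQA a ha) w hw
  · have hcom := comm_of_card (k := 1) (p := 3) (by norm_num) (by norm_num) (by norm_num) hexp hz (hnA z)
      (by rw [card_units4 hF hX]; norm_num) (by
        intro j hj hj'
        have : j = 1 := by omega
        rw [this]; norm_num)
    have hHlt : finrank F H < 4 := by
      have h5 := Submodule.finrank_lt (K := F) (V := X) (s := H) (by
        intro hHt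
        have h6 : P = ⊥ := by
          rw [Submodule.eq_bot_iff]
          intro p hp
          refine hPf p hp ?_
          have : p ∈ H := hHt ▸ Submodule.mem_top
          rw [hHf] at this
          exact this
        rw [h6, finrank_bot] at hP
        norm_num at hP)
      rwa [hX] at h5
    exact hnot fun w hw a ha => fix_small (r := 5) (by norm_num) (by rw [hF]; norm_num) (e := 4)
        (by rw [hF]; exact ord_two_five) (hexp a ha) H (hcH a (hcom a ha)) hHlt w hw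

end Cfsg.Agent.H99.O8
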