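import Cfsg.Agent.H99.AS.Gen
import Cfsg.Agent.H99.AS.Thirteen

/-!
# S3943, the row `Ω⁺₈(2)` (helper99): solvable linear groups in small dimension over `F₂`
-/

set_option autoImplicit false
set_option linter.unusedSectionVars false

namespace Cfsg.Agent.H99.O8

open Module Subgroup Cfsg.Agent.H518.DghpFix Cfsg.Agent.H99.AS
open scoped commutatorElement

universe u v w

/-- a nontrivial solvable group has an abelian normal subgroup of prime exponent -/
theorem exists_elem_normal {Γ : Type w} [Group Γ] [Finite Γ] [Group.IsSolvable Γ] [Nontrivial Γ] :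
    ∃ t : ℕ, t.Prime ∧ ∃ A : Subgroup Γ, A.Normal ∧ A ≠ ⊥ ∧ (∀ a ∈ A, ∀ b ∈ A, a * b = b * a) ∧
      ∀ a ∈ A, a ^ t = 1 := by
  have hne : ({M : Subgroup Γ | M.Normal ∧ M ≠ ⊥}).Nonempty := ⟨⊤, inferInstance, top_ne_bot⟩
  obtain ⟨M, hM⟩ := Set.Finite.exists_minimal (Set.toFinite _) hne
  have hMn := hM.1.1
  have hlt := Group.IsSolvable.commutator_lt_of_ne_bot hM.1.2
  have hbot : ⁅M, M⁆ = ⊥ := by
    by_contra h
    have h1 : ⁅M, M⁆ ∈ {M : Subgroup Γ | M.Normal ∧ M ≠ ⊥} := ⟨inferInstance, h⟩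
    exact hlt.not_ge (hM.2 h1 hlt.le)
  have hab : ∀ a ∈ M, ∀ b ∈ M, a * b = b * a := by
    intro a ha b hb
    have h1 := Subgroup.commutator_mem_commutator ha hb
    rw [hbot, Subgroup.mem_bot] at h1
    exact commutatorElement_eq_one_iff_mul_comm.1 h1
  have h1 : Nat.card M ≠ 1 := fun h => hM.1.2 (Subgroup.card_eq_one.1 h)
  obtain ⟨t, ht, htd⟩ := Nat.exists_prime_and_dvd h1
  refine ⟨t, ht, ?_⟩
  let A : Subgroup Γ :=
    { carrier := {a | a ∈ M ∧ a ^ t = 1}
      one_mem' := ⟨one_mem _, one_pow _⟩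
      mul_mem' := fun {a b} ha hb => ⟨mul_mem ha.1 hb.1, by
        have hc : Commute a b := hab a ha.1 b hb.1
        rw [hc.mul_pow, ha.2, hb.2, one_mul]⟩
      inv_mem' := fun {a} ha => ⟨inv_mem ha.1, by rw [inv_pow, ha.2, inv_one]⟩ }
  refine ⟨A, ⟨fun a ha g => ⟨hMn.conj_mem a ha.1 g, by rw [conj_pow, ha.2]; group⟩⟩, ?_,
    fun a ha b hb => hab a ha.1 b hb.1, fun a ha => ha.2⟩
  intro hA
  have htf : Fact t.Prime := ⟨ht⟩
  obtain ⟨x, hx⟩ := exists_prime_orderOf_dvd_card' t htd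
  have h2 : (x : Γ) ∈ A := ⟨x.2, by
    rw [← Subgroup.coe_pow, ← hx, pow_orderOf_eq_one]; rfl⟩
  rw [hA, Subgroup.mem_bot] at h2
  have h3 : x = 1 := Subtype.ext h2
  rw [h3, orderOf_one] at hx
  exact ht.one_lt.ne hx

variable {F : Type u} [Field F] {X : Type v} [AddCommGroup X] [Module F X]

/-- the fixed space of a group of units -/
def fixU (A : Subgroup (X →ₗ[F] X)ˣ) : Submodule F X := fixG (Units.coeHom (X →ₗ[F] X)) A

theorem mem_fixU {A : Subgroup (X →ₗ[F] X)ˣ} {x : X} : x ∈ fixU A ↔ ∀ a ∈ A, (a : X →ₗ[F] X) x = x := Iff.rfl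

theorem mul_app (a b : (X →ₗ[F] X)ˣ) (x : X) : ((a * b : (X →ₗ[F] X)ˣ) : X →ₗ[F] X) x = (a : X →ₗ[F] X) ((b : X →ₗ[F] X) x) :=
  rfl

theorem inv_app (a : (X →ₗ[F] X)ˣ) (x : X) : ((a⁻¹ : (X →ₗ[F] X)ˣ) : X →ₗ[F] X) ((a : X →ₗ[F] X) x) = x := by
  rw [← mul_app, inv_mul_cancel]; rfl

theorem app_inv (a : (X →ₗ[F] X)ˣ) (x : X) : (a : X →ₗ[F] X) (((a⁻¹ : (X →ₗ[F] X)ˣ) : X →ₗ[F] X) x) = x := by
  rw [← mul_app, mul_inv_cancel]; rfl

theorem app_inj (a : (X →ₗ[F] X)ˣ) {x y : X} (h : (a : X →ₗ[F] X) x = (a : X →ₗ[F] X) y) : x = y := by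
  rw [← inv_app a x, h, inv_app]

variable [Finite X]

/-- **The abelian normal subgroup.** -/
theorem exists_A {M : Type w} [Group M] [Finite M] (hsol : Group.IsSolvable M) (f : M →* (X →ₗ[F] X)ˣ)
    (hirr : ∀ W : Submodule F X, (∀ m, ∀ w ∈ W, (f m : X →ₗ[F] X) w ∈ W) → W = ⊥ ∨ W = ⊤) (hne : ∃ m, f m ≠ 1) :
    ∃ t : ℕ, t.Prime ∧ ∃ A : Subgroup (X →ₗ[F] X)ˣ, A ≤ f.range ∧ A ≠ ⊥ ∧ (∀ a ∈ A, ∀ b ∈ A, a * b = b * a) ∧
      (∀ a ∈ A, a ^ t = 1) ∧ (∀ m, ∀ a ∈ A, f m * a * (f m)⁻¹ ∈ A) ∧ fixU A = ⊥ := by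
  have hfin : Finite f.range := Finite.of_surjective f.rangeRestrict f.rangeRestrict_surjective
  have hs : Group.IsSolvable f.range := Group.isSolvable_of_surjective f.rangeRestrict_surjective
  obtain ⟨m0, hm0⟩ := hne
  have hnt : Nontrivial f.range := ⟨⟨⟨f m0, m0, rfl⟩, 1, fun h => hm0 (congrArg Subtype.val h)⟩⟩
  obtain ⟨t, ht, A, hA1, hA2, hA3, hA4⟩ := exists_elem_normal (Γ := f.range)
  have hnor : ∀ m, ∀ a ∈ A.map f.range.subtype, f m * a * (f m)⁻¹ ∈ A.map f.range.subtype := by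
    rintro m _ ⟨a, ha, rfl⟩
    exact ⟨⟨f m, m, rfl⟩ * a * ⟨f m, m, rfl⟩⁻¹, hA1.conj_mem a ha _, rfl⟩
  refine ⟨t, ht, A.map f.range.subtype, Subgroup.map_subtype_le _, ?_, ?_, ?_, hnor, ?_⟩
  · intro h
    apply hA2
    rwa [Subgroup.map_eq_bot_iff_of_injective _ f.range.subtype_injective] at h
  · rintro _ ⟨a, ha, rfl⟩ _ ⟨b, hb, rfl⟩
    exact congrArg Subtype.val (hA3 a ha b hb)
  · rintro _ ⟨a, ha, rfl⟩
    exact congrArg Subtype.val (hA4 a ha)
  · have hinv : ∀ m, ∀ w ∈ fixU (A.map f.range.subtype), (f m : X →ₗ[F] X) w ∈ fixU (A.map f.range.subtype) := by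
      intro m w hw a ha
      have h1 := hnor m⁻¹ a ha
      have h2 := hw _ h1
      have h3 : (a : X →ₗ[F] X) ((f m : X →ₗ[F] X) w) = (f m : X →ₗ[F] X) w := by
        have e1 : ((f m * (f m⁻¹ * a * (f m⁻¹)⁻¹) : (X →ₗ[F] X)ˣ) : X →ₗ[F] X) w = (f m : X →ₗ[F] X) w := by
          rw [mul_app]
          exact congrArg _ h2
        have e2 : f m * (f m⁻¹ * a * (f m⁻¹)⁻¹) = a * f m := by
          rw [map_inv]; group
        rw [e2] at e1
        exact e1
      exact h3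
    rcases hirr (fixU (A.map f.range.subtype)) hinv with h | h
    · exact h
    · exfalso
      apply hA2
      rw [Subgroup.eq_bot_iff_forall]
      intro a ha
      apply Subtype.ext
      apply Units.ext
      refine LinearMap.ext fun x => ?_
      have hx : x ∈ fixU (A.map f.range.subtype) := h ▸ Submodule.mem_top
      exact hx _ ⟨a, ha, rfl⟩

/-- the prime divides `|X| - 1` -/
theorem prime_dvd {A : Subgroup (X →ₗ[F] X)ˣ} {t : ℕ} (ht : t.Prime) (hA : ∀ a ∈ A, a ^ t = 1)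
    (hfix : fixU A = ⊥) : t ∣ Nat.card X - 1 := by
  have htf : Fact t.Prime := ⟨ht⟩
  have hp : IsPGroup t A := fun a => ⟨1, Subtype.ext (by rw [pow_one]; exact hA a a.2)⟩
  have hfA : Finite A := by
    have : Finite (X →ₗ[F] X) := Finite.of_injective (fun f : X →ₗ[F] X => (f : X → X)) DFunLike.coe_injective
    infer_instance
  let _ : MulAction A X :=
    { smul := fun a x => (a : (X →ₗ[F] X)ˣ).val x
      one_smul := fun x => rfl
      mul_smul := fun a b x => rfl }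
  have h1 := hp.card_modEq_card_fixedPoints X
  have h2 : Nat.card (MulAction.fixedPoints A X) = 1 := by
    have h3 : MulAction.fixedPoints A X = {0} := by
      ext x
      rw [MulAction.mem_fixedPoints, Set.mem_singleton_iff]
      constructor
      · intro h
        have : x ∈ fixU A := fun a ha => h ⟨a, ha⟩
        rw [hfix, Submodule.mem_bot] at this
        exact this
      · rintro rfl a
        exact map_zero _
    rw [h3]
    exact Nat.card_unique
  rw [h2] at h1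
  exact (Nat.modEq_iff_dvd' Nat.card_pos).1 h1.symm

/-- vectors with different stabilisers are independent -/
theorem indep_stab {A : Subgroup (X →ₗ[F] X)ˣ} (K : ℕ → Subgroup (X →ₗ[F] X)ˣ) (W : ℕ → Submodule F X) :
    ∀ n : ℕ, (∀ i < n, K i ≤ A) → (∀ i < n, ∀ k ∈ K i, ∀ w ∈ W i, (k : X →ₗ[F] X) w = w) →
      (∀ i < n, ∀ b ∈ A, ∀ w ∈ W i, w ≠ 0 → (b : X →ₗ[F] X) w = w → b ∈ K i) →
      (∀ i < n, ∀ b ∈ A, ∀ w ∈ W i, (b : X →ₗ[F] X) w ∈ W i) →
      (∀ i < n, ∀ j < n, i ≠ j → ¬ K j ≤ K i) →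
      ∀ v : ℕ → X, (∀ i < n, v i ∈ W i) → ∑ i ∈ Finset.range n, v i = 0 → ∀ i < n, v i = 0 := by
  intro n
  induction n with
  | zero => intro _ _ _ _ _ v _ _ i hi; omega
  | succ n ih =>
    intro h1 h2 h3 h4 h5 v hv hs
    rw [Finset.sum_range_succ] at hs
    have key : ∀ k ∈ K n, ∀ i < n, (k : X →ₗ[F] X) (v i) - v i = 0 := by
      intro k hk
      have hkA := h1 n (Nat.lt_succ_self n) hk
      refine ih (fun i hi => h1 i (by omega)) (fun i hi => h2 i (by omega)) (fun i hi => h3 i (by omega))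
        (fun i hi => h4 i (by omega)) (fun i hi j hj => h5 i (by omega) j (by omega))
        (fun i => (k : X →ₗ[F] X) (v i) - v i) (fun i hi => ?_) ?_
      · exact Submodule.sub_mem _ (h4 i (by omega) k hkA _ (hv i (by omega))) (hv i (by omega))
      · rw [Finset.sum_sub_distrib]
        have e1 := congrArg (k : X →ₗ[F] X) hs
        rw [map_add, map_sum, map_zero, h2 n (Nat.lt_succ_self n) k hk _ (hv n (Nat.lt_succ_self n))] at e1
        have e2 : ∑ i ∈ Finset.range n, (k : X →ₗ[F] X) (v i) = -v n := eq_neg_of_add_eq_zero_left e1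
        have e3 : ∑ i ∈ Finset.range n, v i = -v n := eq_neg_of_add_eq_zero_left hs
        rw [e2, e3, sub_self]
    have hz : ∀ i < n, v i = 0 := by
      intro i hi
      by_contra hne
      apply h5 i (by omega) n (Nat.lt_succ_self n) (by omega)
      intro k hk
      exact h3 i (by omega) k (h1 n (Nat.lt_succ_self n) hk) (v i) (hv i (by omega)) hne (sub_eq_zero.1 (key k hk i hi))
    intro i hi
    rcases Nat.lt_succ_iff_lt_or_eq.1 hi with h | h
    · exact hz i h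
    · subst h
      rw [Finset.sum_eq_zero fun j hj => hz j (Finset.mem_range.1 hj), zero_add] at hs
      exact hs

/-- the stabiliser of a vector in `A` -/
def St (A : Subgroup (X →ₗ[F] X)ˣ) (x : X) : Subgroup (X →ₗ[F] X)ˣ where
  carrier := {a | a ∈ A ∧ (a : X →ₗ[F] X) x = x}
  one_mem' := ⟨one_mem _, rfl⟩
  mul_mem' := fun {a b} ha hb => ⟨mul_mem ha.1 hb.1, by rw [mul_app, hb.2, ha.2]⟩
  inv_mem' := fun {a} ha => ⟨inv_mem ha.1, by
    have h := inv_app a x
    rwa [ha.2] at h⟩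

theorem mem_St {A : Subgroup (X →ₗ[F] X)ˣ} {x : X} {a : (X →ₗ[F] X)ˣ} :
    a ∈ St A x ↔ a ∈ A ∧ (a : X →ₗ[F] X) x = x := Iff.rfl

theorem St_conj {A : Subgroup (X →ₗ[F] X)ˣ} {g : (X →ₗ[F] X)ˣ} (hg : ∀ a ∈ A, g * a * g⁻¹ ∈ A)
    (hg' : ∀ a ∈ A, g⁻¹ * a * g ∈ A) (x : X) (a : (X →ₗ[F] X)ˣ) :
    g * a * g⁻¹ ∈ St A ((g : X →ₗ[F] X) x) ↔ a ∈ St A x := by
  rw [mem_St, mem_St]
  have e1 : ((g * a * g⁻¹ : (X →ₗ[F] X)ˣ) : X →ₗ[F] X) ((g : X →ₗ[F] X) x) = (g : X →ₗ[F] X) ((a : X →ₗ[F] X) x) := by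
    rw [mul_app, mul_app, inv_app]
  rw [e1]
  constructor
  · rintro ⟨h1, h2⟩
    refine ⟨?_, app_inj g h2⟩
    have := hg' _ h1
    rwa [show g⁻¹ * (g * a * g⁻¹) * g = a by group] at this
  · rintro ⟨h1, h2⟩
    exact ⟨hg a h1, by rw [h2]⟩

theorem card_St {A : Subgroup (X →ₗ[F] X)ˣ} {g : (X →ₗ[F] X)ˣ} (hg : ∀ a ∈ A, g * a * g⁻¹ ∈ A)
    (hg' : ∀ a ∈ A, g⁻¹ * a * g ∈ A) (x : X) : Nat.card (St A ((g : X →ₗ[F] X) x)) = Nat.card (St A x) := by
  have h1 : (St A x).map (MulAut.conj g).toMonoidHom = St A ((g : X →ₗ[F] X) x) := by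
    ext a
    constructor
    · rintro ⟨b, hb, rfl⟩
      exact (St_conj hg hg' x b).2 hb
    · intro ha
      refine ⟨g⁻¹ * a * g, ?_, ?_⟩
      · apply (St_conj hg hg' x _).1
        rwa [show g * (g⁻¹ * a * g) * g⁻¹ = a by group]
      · show g * (g⁻¹ * a * g) * g⁻¹ = a
        group
  rw [← h1]
  exact Subgroup.card_map_of_injective (MulAut.conj g).injective

/-- **An abelian group of exponent 3 is centralised by elements of order 5** in dimension at most 9 over `F₂`. -/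
theorem comm_five (hF : Nat.card F = 2) [FiniteDimensional F X] [Nontrivial X] {A : Subgroup (X →ₗ[F] X)ˣ}
    (hab : ∀ a ∈ A, ∀ b ∈ A, a * b = b * a) (h3 : ∀ a ∈ A, a ^ 3 = 1) (hfix : fixU A = ⊥) {M : Type w} [Group M]
    (f : M →* (X →ₗ[F] X)ˣ)
    (hirr : ∀ W : Submodule F X, (∀ m, ∀ w ∈ W, (f m : X →ₗ[F] X) w ∈ W) → W = ⊥ ∨ W = ⊤)
    (hnA : ∀ m, ∀ a ∈ A, f m * a * (f m)⁻¹ ∈ A) {y : M} (hy : f y ^ 5 = 1) (hdim : finrank F X < 10) :
    ∀ a ∈ A, f y * a = a * f y := by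
  classical
  have hXf : Finite (X →ₗ[F] X) := Finite.of_injective (fun f : X →ₗ[F] X => (f : X → X)) DFunLike.coe_injective
  have hchar : ∀ x : X, x + x = 0 := by
    have hFin : Finite F := Nat.finite_of_card_ne_zero (by rw [hF]; norm_num)
    have := Fintype.ofFinite F
    have h2 : (2 : F) = 0 := by
      have h := Nat.cast_card_eq_zero F
      rw [← Nat.card_eq_fintype_card, hF] at h
      exact_mod_cast h
    intro x
    rw [← two_smul F x, h2, zero_smul]
  have hnA' : ∀ m, ∀ a ∈ A, (f m)⁻¹ * a * f m ∈ A := by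
    intro m a ha
    have := hnA m⁻¹ a ha
    rwa [map_inv, inv_inv] at this
  set g := f y with hg
  have hgn : ∀ n : ℕ, ∀ a ∈ A, g ^ n * a * (g ^ n)⁻¹ ∈ A := by
    intro n a ha
    rw [hg, ← map_pow]
    exact hnA _ a ha
  have hgn' : ∀ n : ℕ, ∀ a ∈ A, (g ^ n)⁻¹ * a * g ^ n ∈ A := by
    intro n a ha
    rw [hg, ← map_pow]
    exact hnA' _ a ha
  -- maximal stabilisers
  let Mx : X → Prop := fun x => x ≠ 0 ∧ ∀ x', x' ≠ 0 → Nat.card (St A x') ≤ Nat.card (St A x)
  have hMxe : ∃ x, Mx x := by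
    obtain ⟨z, hz⟩ := exists_ne (0 : X)
    obtain ⟨x, hx, hmax⟩ := Set.exists_max_image {x : X | x ≠ 0} (fun x => Nat.card (St A x)) (Set.toFinite _) ⟨z, hz⟩
    exact ⟨x, hx, hmax⟩
  have hMxm : ∀ m x, Mx x → Mx ((f m : X →ₗ[F] X) x) := by
    rintro m x ⟨h1, h2⟩
    refine ⟨fun h => h1 (app_inj (f m) (by rw [h, map_zero])), fun x' hx' => ?_⟩
    rw [card_St (hnA m) (hnA' m)]
    exact h2 x' hx'
  have hMxg : ∀ n : ℕ, ∀ x, Mx x → Mx (((g ^ n : (X →ₗ[F] X)ˣ) : X →ₗ[F] X) x) := by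
    intro n x hx
    rw [hg, ← map_pow]
    exact hMxm _ x hx
  have hMx1 : ∀ x, Mx x → ∀ w, w ≠ 0 → St A x ≤ St A w → St A w = St A x := by
    intro x hx w hw hle
    exact (Subgroup.eq_of_le_of_card_ge hle (hx.2 w hw)).symm
  -- the fixed space of the stabiliser
  have hW : ∀ x, Mx x → ∀ w ∈ fixU (St A x), w ≠ 0 → St A w = St A x := by
    intro x hx w hw hw0
    refine hMx1 x hx w hw0 fun k hk => ⟨hk.1, hw k hk⟩
  have hWA : ∀ x, ∀ b ∈ A, ∀ w ∈ fixU (St A x), (b : X →ₗ[F] X) w ∈ fixU (St A x) := by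
    intro x b hb w hw k hk
    show (k : X →ₗ[F] X) ((b : X →ₗ[F] X) w) = (b : X →ₗ[F] X) w
    rw [← mul_app, hab k hk.1 b hb, mul_app]
    exact congrArg _ (hw k hk)
  -- claim 1
  have claim1 : ∀ x, Mx x → ∀ k ∈ St A x, g * k * g⁻¹ ∈ St A x := by
    intro x hx
    -- the conjugates
    let K : ℕ → Subgroup (X →ₗ[F] X)ˣ := fun i => St A (((g ^ i : (X →ₗ[F] X)ˣ) : X →ₗ[F] X) x)
    let W : ℕ → Submodule F X := fun i => fixU (K i)
    have hpair : ∃ i < 5, ∃ j < 5, i ≠ j ∧ K j ≤ K i := by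
      by_contra hcon
      push Not at hcon
      have hind := indep_stab (A := A) K W 5 (fun i _ k hk => hk.1) (fun i _ k hk w hw => hw k hk)
        (fun i _ b hb w hw hw0 hbw => by
          show b ∈ St A (((g ^ i : (X →ₗ[F] X)ˣ) : X →ₗ[F] X) x)
          rw [← hW _ (hMxg i x hx) w hw hw0]
          exact ⟨hb, hbw⟩)
        (fun i _ b hb w hw => hWA _ b hb w hw)
        (fun i hi j hj hij h => hcon i hi j hj hij h)
      -- the map
      let T : (Fin 5 → fixU (St A x)) →ₗ[F] X :=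
        { toFun := fun u => ∑ i : Fin 5, ((g ^ (i : ℕ) : (X →ₗ[F] X)ˣ) : X →ₗ[F] X) (u i)
          map_add' := fun u u' => by
            rw [← Finset.sum_add_distrib]
            refine Finset.sum_congr rfl fun i _ => ?_
            rw [Pi.add_apply, Submodule.coe_add, map_add]
          map_smul' := fun c u => by
            rw [RingHom.id_apply, Finset.smul_sum]
            refine Finset.sum_congr rfl fun i _ => ?_
            rw [Pi.smul_apply, Submodule.coe_smul, map_smul] }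
      have hTinj : Function.Injective T := by
        rw [← LinearMap.ker_eq_bot, LinearMap.ker_eq_bot']
        intro u hu
        let v : ℕ → X := fun i => if h : i < 5 then ((g ^ i : (X →ₗ[F] X)ˣ) : X →ₗ[F] X) (u ⟨i, h⟩) else 0
        have hv : ∀ i < 5, v i ∈ W i := by
          intro i hi k hk
          have e1 : v i = ((g ^ i : (X →ₗ[F] X)ˣ) : X →ₗ[F] X) (u ⟨i, hi⟩) := dif_pos hi
          have e2 : (g ^ i)⁻¹ * k * g ^ i ∈ St A x := by
            apply (St_conj (hgn i) (hgn' i) x _).1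
            rwa [show g ^ i * ((g ^ i)⁻¹ * k * g ^ i) * (g ^ i)⁻¹ = k by group]
          have e3 := (u ⟨i, hi⟩).2 _ e2
          have e4 : ((g ^ i : (X →ₗ[F] X)ˣ) : X →ₗ[F] X)
              ((((g ^ i)⁻¹ * k * g ^ i : (X →ₗ[F] X)ˣ) : X →ₗ[F] X) (u ⟨i, hi⟩)) =
              (k : X →ₗ[F] X) (((g ^ i : (X →ₗ[F] X)ˣ) : X →ₗ[F] X) (u ⟨i, hi⟩)) := by
            rw [← mul_app, ← mul_app]
            congr 2
            group
          show (k : X →ₗ[F] X) (v i) = v i
          rw [e1, ← e4]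
          exact congrArg _ e3
        have hs : ∑ i ∈ Finset.range 5, v i = 0 := by
          rw [Finset.sum_range, ← hu]
          show ∑ i : Fin 5, v i = ∑ i : Fin 5, ((g ^ (i : ℕ) : (X →ₗ[F] X)ˣ) : X →ₗ[F] X) (u i)
          refine Finset.sum_congr rfl fun i _ => ?_
          exact dif_pos i.2
        have hz := hind v hv hs
        funext i
        have e1 : v i = ((g ^ (i : ℕ) : (X →ₗ[F] X)ˣ) : X →ₗ[F] X) (u i) := dif_pos i.2
        have e2 := hz i i.2
        rw [e1] at e2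
        apply Subtype.ext
        exact app_inj (g ^ (i : ℕ)) (by rw [e2]; exact (map_zero _).symm)
      have h1 := LinearMap.finrank_le_finrank_of_injective hTinj
      rw [Module.finrank_pi_fintype, Finset.sum_const, Finset.card_univ, Fintype.card_fin, smul_eq_mul] at h1
      have h2 : finrank F (fixU (St A x)) ≤ 1 := by omega
      -- the fixed space is `{0, x}`
      have hxW : x ∈ fixU (St A x) := fun a ha => ha.2
      have h5 : ∀ w ∈ fixU (St A x), w ≠ 0 → w = x := by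
        intro w hw hw0
        have hfr : finrank F (fixU (St A x)) = 1 := by
          have h4 : finrank F (fixU (St A x)) ≠ 0 := by
            intro h
            have := Submodule.finrank_eq_zero.1 h
            rw [this, Submodule.mem_bot] at hxW
            exact hx.1 hxW
          omega
        obtain ⟨c, hc⟩ := exists_smul_eq_of_finrank_eq_one hfr (x := (⟨x, hxW⟩ : fixU (St A x)))
          (fun h => hx.1 (congrArg Subtype.val h)) ⟨w, hw⟩
        have hc' : c • x = w := congrArg Subtype.val hc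
        have hc0 : c ≠ 0 := fun h => hw0 (by rw [← hc', h, zero_smul])
        have hFin : Finite F := Nat.finite_of_card_ne_zero (by rw [hF]; norm_num)
        have := Fintype.ofFinite F
        have hc1 : c = 1 := by
          have h := FiniteField.pow_card_sub_one_eq_one c hc0
          rwa [← Nat.card_eq_fintype_card, hF, pow_one] at h
        rw [← hc', hc1, one_smul]
      have h6 : x ∈ fixU A := by
        intro a ha
        refine h5 _ (hWA x a ha x hxW) fun h => hx.1 (app_inj a (by rw [map_zero]; exact h))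
      rw [hfix, Submodule.mem_bot] at h6
      exact hx.1 h6
    have hadd : ∀ a b : ℕ, (∀ k ∈ St A x, g ^ a * k * (g ^ a)⁻¹ ∈ St A x) →
        (∀ k ∈ St A x, g ^ b * k * (g ^ b)⁻¹ ∈ St A x) → ∀ k ∈ St A x, g ^ (a + b) * k * (g ^ (a + b))⁻¹ ∈ St A x := by
      intro a b ha hb k hk
      have := ha _ (hb k hk)
      rwa [show g ^ a * (g ^ b * k * (g ^ b)⁻¹) * (g ^ a)⁻¹ = g ^ (a + b) * k * (g ^ (a + b))⁻¹ by
        rw [pow_add]; group] at this
    have hmul : ∀ d e : ℕ, (∀ k ∈ St A x, g ^ d * k * (g ^ d)⁻¹ ∈ St A x) →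
        ∀ k ∈ St A x, g ^ (d * e) * k * (g ^ (d * e))⁻¹ ∈ St A x := by
      intro d e hd
      induction e with
      | zero =>
        intro k hk
        rw [mul_zero, pow_zero, one_mul, inv_one, mul_one]
        exact hk
      | succ e ih =>
        rw [Nat.mul_succ]
        exact hadd _ _ ih hd
    obtain ⟨d, hd0, hd5, hd⟩ : ∃ d, 0 < d ∧ d < 5 ∧ ∀ k ∈ St A x, g ^ d * k * (g ^ d)⁻¹ ∈ St A x := by
      have aux : ∀ i < 5, ∀ j < 5, i < j → K j = K i →
          ∀ k ∈ St A x, g ^ (j - i) * k * (g ^ (j - i))⁻¹ ∈ St A x := by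
        intro i _ j _ hij hK k hk
        have e1 : g ^ j * k * (g ^ j)⁻¹ ∈ K j := (St_conj (hgn j) (hgn' j) x k).2 hk
        rw [hK] at e1
        apply (St_conj (hgn i) (hgn' i) x _).1
        have e2 : g ^ i * (g ^ (j - i) * k * (g ^ (j - i))⁻¹) * (g ^ i)⁻¹ = g ^ j * k * (g ^ j)⁻¹ := by
          have e3 : g ^ j = g ^ i * g ^ (j - i) := by rw [← pow_add, Nat.add_sub_cancel' hij.le]
          rw [e3]; group
        rw [e2]
        exact e1
      obtain ⟨i, hi, j, hj, hij, hle⟩ := hpair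
      have heq : K j = K i := by
        refine Subgroup.eq_of_le_of_card_ge hle ?_
        exact (hMxg j x hx).2 _ (hMxg i x hx).1
      rcases lt_or_gt_of_ne hij with h | h
      · exact ⟨j - i, by omega, by omega, aux i hi j hj h heq⟩
      · exact ⟨i - j, by omega, by omega, aux j hj i hi h heq.symm⟩
    have hg6 : ∀ e, (d * e) % 5 = 1 → g ^ (d * e) = g := by
      intro e he
      rw [pow_eq_pow_mod (d * e) hy, he, pow_one]
    have hfin : ∀ e, (d * e) % 5 = 1 → ∀ k ∈ St A x, g * k * g⁻¹ ∈ St A x := by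
      intro e he
      have := hmul d e hd
      rwa [hg6 e he] at this
    interval_cases d
    · exact hfin 1 rfl
    · exact hfin 3 rfl
    · exact hfin 2 rfl
    · exact hfin 4 rfl
  have claim1n : ∀ x, Mx x → ∀ n : ℕ, ∀ k ∈ St A x, g ^ n * k * (g ^ n)⁻¹ ∈ St A x := by
    intro x hx n
    induction n with
    | zero =>
      intro k hk
      rw [pow_zero, one_mul, inv_one, mul_one]
      exact hk
    | succ n ih =>
      intro k hk
      have := claim1 x hx _ (ih k hk)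
      rwa [show g * (g ^ n * k * (g ^ n)⁻¹) * g⁻¹ = g ^ (n + 1) * k * (g ^ (n + 1))⁻¹ by
        rw [pow_succ']; group] at this
  have hg4 : g ^ 4 = g⁻¹ := by
    apply eq_inv_of_mul_eq_one_left
    rw [← pow_succ, hy]
  have claim1' : ∀ x, Mx x → ∀ k ∈ St A x, g⁻¹ * k * g ∈ St A x := by
    intro x hx k hk
    have := claim1n x hx 4 k hk
    rwa [hg4, inv_inv] at this
  -- claim 2
  have claim2 : ∀ x, Mx x → ∀ b ∈ A, ∀ w ∈ fixU (St A x),
      ((g * b * g⁻¹ : (X →ₗ[F] X)ˣ) : X →ₗ[F] X) w = (b : X →ₗ[F] X) w := by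
    intro x hx b hb
    by_cases hbK : b ∈ St A x
    · intro w hw
      have e1 := hw _ hbK
      have e2 := hw _ (claim1 x hx b hbK)
      exact e2.trans e1.symm
    set c := g * b * g⁻¹ with hc
    have hcA : c ∈ A := hnA y b hb
    have hcK : c ∉ St A x := by
      intro h
      apply hbK
      have := claim1' x hx _ h
      rwa [show g⁻¹ * c * g = b by rw [hc]; group] at this
    have hgW : ∀ w ∈ fixU (St A x), (g : X →ₗ[F] X) w ∈ fixU (St A x) := by
      intro w hw k hk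
      show (k : X →ₗ[F] X) ((g : X →ₗ[F] X) w) = (g : X →ₗ[F] X) w
      have e1 := hw _ (claim1' x hx k hk)
      have e2 : (g : X →ₗ[F] X) (((g⁻¹ * k * g : (X →ₗ[F] X)ˣ) : X →ₗ[F] X) w) =
          (k : X →ₗ[F] X) ((g : X →ₗ[F] X) w) := by
        rw [← mul_app, ← mul_app]
        congr 2
        group
      rw [← e2]
      exact congrArg _ e1
    have cube : ∀ b' ∈ A, ∀ w, (b' : X →ₗ[F] X) ((b' : X →ₗ[F] X) ((b' : X →ₗ[F] X) w)) = w := by
      intro b' hb' w
      have : b' * b' * b' = 1 := by rw [← pow_two, ← pow_succ, h3 b' hb']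
      rw [← mul_app, ← mul_app, this]; rfl
    have quad : ∀ b' ∈ A, b' ∉ St A x → ∀ w ∈ fixU (St A x),
        (b' : X →ₗ[F] X) ((b' : X →ₗ[F] X) w) = (b' : X →ₗ[F] X) w + w := by
      intro b' hb' hb'K w hw
      have hu : (b' : X →ₗ[F] X) ((b' : X →ₗ[F] X) w) + (b' : X →ₗ[F] X) w + w = 0 := by
        by_contra hne
        apply hb'K
        have hmem : (b' : X →ₗ[F] X) ((b' : X →ₗ[F] X) w) + (b' : X →ₗ[F] X) w + w ∈ fixU (St A x) :=
          Submodule.add_mem _ (Submodule.add_mem _ (hWA x b' hb' _ (hWA x b' hb' w hw)) (hWA x b' hb' w hw)) hw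
        rw [← hW x hx _ hmem hne]
        refine ⟨hb', ?_⟩
        rw [map_add, map_add, cube b' hb']
        abel
      have e1 : (b' : X →ₗ[F] X) ((b' : X →ₗ[F] X) w) + ((b' : X →ₗ[F] X) w + w) = 0 := by
        rw [← add_assoc]; exact hu
      have e2 := hchar ((b' : X →ₗ[F] X) w + w)
      rw [← e2] at e1
      exact add_right_cancel e1
    have hcomm : ∀ w, (c : X →ₗ[F] X) ((b : X →ₗ[F] X) w) = (b : X →ₗ[F] X) ((c : X →ₗ[F] X) w) := by
      intro w
      rw [← mul_app, hab c hcA b hb, mul_app]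
    by_cases hall : ∀ w ∈ fixU (St A x), (c : X →ₗ[F] X) w = (b : X →ₗ[F] X) ((b : X →ₗ[F] X) w)
    · exfalso
      have hR : ∀ w ∈ fixU (St A x), (g : X →ₗ[F] X) ((b : X →ₗ[F] X) w) =
          (b : X →ₗ[F] X) ((b : X →ₗ[F] X) ((g : X →ₗ[F] X) w)) := by
        intro w hw
        rw [← hall _ (hgW w hw), hc, mul_app, mul_app, inv_app]
      have hR2 : ∀ w ∈ fixU (St A x), (g : X →ₗ[F] X) ((g : X →ₗ[F] X) ((b : X →ₗ[F] X) w)) =
          (b : X →ₗ[F] X) ((g : X →ₗ[F] X) ((g : X →ₗ[F] X) w)) := by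
        intro w hw
        have hgw := hgW w hw
        rw [hR w hw, hR _ (hWA x b hb _ hgw), hR _ hgw, cube b hb]
      have hR6 : ∀ w ∈ fixU (St A x), (g : X →ₗ[F] X) ((b : X →ₗ[F] X) w) =
          (b : X →ₗ[F] X) ((g : X →ₗ[F] X) w) := by
        intro w hw
        have e6 : ∀ w, (g : X →ₗ[F] X) w = (g : X →ₗ[F] X) ((g : X →ₗ[F] X) ((g : X →ₗ[F] X) ((g : X →ₗ[F] X)
            ((g : X →ₗ[F] X) ((g : X →ₗ[F] X) w))))) := by
          intro w
          have e7 : g * g * g * g * g * g = g := by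
            rw [show g * g * g * g * g * g = g ^ 5 * g by simp only [pow_succ, pow_zero, one_mul], hy, one_mul]
          calc (g : X →ₗ[F] X) w = ((g * g * g * g * g * g : (X →ₗ[F] X)ˣ) : X →ₗ[F] X) w := by rw [e7]
            _ = _ := rfl
        rw [e6, hR2 w hw, hR2 _ (hgW _ (hgW w hw)), hR2 _ (hgW _ (hgW _ (hgW _ (hgW w hw)))), ← e6 w]
      have hxW : x ∈ fixU (St A x) := fun a ha => ha.2
      obtain ⟨w, hw, hgw⟩ : ∃ w ∈ fixU (St A x), (g : X →ₗ[F] X) w = x := by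
        refine ⟨(g : X →ₗ[F] X) ((g : X →ₗ[F] X) ((g : X →ₗ[F] X) ((g : X →ₗ[F] X) x))),
          hgW _ (hgW _ (hgW _ (hgW x hxW))), ?_⟩
        have e7 : g * g * g * g * g = 1 := by
          rw [show g * g * g * g * g = g ^ 5 by simp only [pow_succ, pow_zero, one_mul], hy]
        calc _ = ((g * g * g * g * g : (X →ₗ[F] X)ˣ) : X →ₗ[F] X) x := rfl
          _ = x := by rw [e7]; rfl
      have e1 := hR w hw
      rw [hR6 w hw, hgw] at e1
      apply hbK
      exact ⟨hb, (app_inj b e1).symm⟩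
    · push Not at hall
      obtain ⟨w1, hw1, hne⟩ := hall
      set w' := (c : X →ₗ[F] X) w1 + (b : X →ₗ[F] X) ((b : X →ₗ[F] X) w1) with hw'
      have hw'W : w' ∈ fixU (St A x) := Submodule.add_mem _ (hWA x c hcA w1 hw1) (hWA x b hb _ (hWA x b hb w1 hw1))
      have hw'0 : w' ≠ 0 := by
        intro h
        apply hne
        have e2 := hchar ((b : X →ₗ[F] X) ((b : X →ₗ[F] X) w1))
        rw [hw', ← e2] at h
        exact add_right_cancel h
      have hcw : (c : X →ₗ[F] X) w' = (b : X →ₗ[F] X) w' := by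
        rw [hw', map_add, map_add, quad c hcA hcK w1 hw1, cube b hb, hcomm, hcomm]
        have e0 : (b : X →ₗ[F] X) ((b : X →ₗ[F] X) ((c : X →ₗ[F] X) w1)) =
            (b : X →ₗ[F] X) ((c : X →ₗ[F] X) w1) + (c : X →ₗ[F] X) w1 := quad b hb hbK _ (hWA x c hcA w1 hw1)
        rw [e0]
        have e9 := hchar ((c : X →ₗ[F] X) w1)
        calc (c : X →ₗ[F] X) w1 + w1 + ((b : X →ₗ[F] X) ((c : X →ₗ[F] X) w1) + (c : X →ₗ[F] X) w1) =
            (b : X →ₗ[F] X) ((c : X →ₗ[F] X) w1) + w1 + ((c : X →ₗ[F] X) w1 + (c : X →ₗ[F] X) w1) := by abel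
          _ = _ := by rw [e9, add_zero]
      have hst : b⁻¹ * c ∈ St A x := by
        rw [← hW x hx w' hw'W hw'0]
        refine ⟨mul_mem (inv_mem hb) hcA, ?_⟩
        rw [mul_app, hcw, inv_app]
      intro w hw
      have e1 := hw _ hst
      have e2 : (b : X →ₗ[F] X) (((b⁻¹ * c : (X →ₗ[F] X)ˣ) : X →ₗ[F] X) w) = (c : X →ₗ[F] X) w := by
        rw [← mul_app, mul_inv_cancel_left]
      rw [← e2]
      exact congrArg _ e1
  -- the conclusion
  intro a ha
  let S : Submodule F X := Submodule.span F {x | Mx x}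
  have hS : S = ⊤ := by
    have hinv : ∀ m, ∀ w ∈ S, (f m : X →ₗ[F] X) w ∈ S := by
      intro m w hw
      have h1 : S.map (f m : X →ₗ[F] X) ≤ S := by
        rw [Submodule.map_span_le]
        intro x hx
        exact Submodule.subset_span (hMxm m x hx)
      exact h1 ⟨w, hw, rfl⟩
    rcases hirr S hinv with h | h
    · exfalso
      obtain ⟨x, hx⟩ := hMxe
      have : x ∈ S := Submodule.subset_span hx
      rw [h, Submodule.mem_bot] at this
      exact hx.1 this
    · exact h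
  have hD : S ≤ LinearMap.eqLocus ((g * a * g⁻¹ : (X →ₗ[F] X)ˣ) : X →ₗ[F] X) (a : X →ₗ[F] X) := by
    rw [Submodule.span_le]
    intro x hx
    exact claim2 x hx a ha x (fun k hk => hk.2)
  have h1 : g * a * g⁻¹ = a := by
    apply Units.ext
    refine LinearMap.ext fun x => ?_
    have : x ∈ S := hS ▸ Submodule.mem_top
    exact hD this
  rw [mul_inv_eq_iff_eq_mul] at h1
  exact h1

theorem two_eq_zero (hF : Nat.card F = 2) : (2 : F) = 0 := by
  have hFin : Finite F := Nat.finite_of_card_ne_zero (by rw [hF]; norm_num)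
  have := Fintype.ofFinite F
  have h := Nat.cast_card_eq_zero F
  rw [← Nat.card_eq_fintype_card, hF] at h
  exact_mod_cast h

theorem add_self (hF : Nat.card F = 2) (x : X) : x + x = 0 := by
  rw [← two_smul F x, two_eq_zero hF, zero_smul]

omit [Finite X] in
theorem pow_app_fix {g : (X →ₗ[F] X)ˣ} {v : X} (h : (g : X →ₗ[F] X) v = v) (n : ℕ) :
    ((g ^ n : (X →ₗ[F] X)ˣ) : X →ₗ[F] X) v = v := by
  induction n with
  | zero => rfl
  | succ n ih => rw [pow_succ, mul_app, h, ih]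

/-- **No torus of order 15.** -/
theorem no_torus (hF : Nat.card F = 2) [FiniteDimensional F X] (hX : finrank F X = 4) (B : X → X → F)
    (hBl : ∀ x y z, B (x + y) z = B x z + B y z) (hBs : ∀ x y, B x y = B y x) (hB0 : ∀ x, B x x = 0)
    (hB : ∃ x y, B x y ≠ 0) {a y : (X →ₗ[F] X)ˣ} (hay : y * a = a * y)
    (ha : ∀ x, (a : X →ₗ[F] X) ((a : X →ₗ[F] X) x) = (a : X →ₗ[F] X) x + x) (hy5 : y ^ 5 = 1)
    (hyf : ∀ x, (y : X →ₗ[F] X) x = x → x = 0)
    (hBa : ∀ x z, B ((a : X →ₗ[F] X) x) ((a : X →ₗ[F] X) z) = B x z)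
    (hBy : ∀ x z, B ((y : X →ₗ[F] X) x) ((y : X →ₗ[F] X) z) = B x z) : False := by
  classical
  have hF2 : ∀ c : F, c + c = 0 := fun c => by rw [← two_mul, two_eq_zero hF, zero_mul]
  have hBr : ∀ x y z, B x (y + z) = B x y + B x z := fun x y z => by
    rw [hBs, hBl, hBs y, hBs z]
  have ha3 : ∀ x, (a : X →ₗ[F] X) ((a : X →ₗ[F] X) ((a : X →ₗ[F] X) x)) = x := by
    intro x
    rw [ha, ha, add_right_comm, add_self hF, zero_add]
  have haf : ∀ x, (a : X →ₗ[F] X) x = x → x = 0 := by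
    intro x hx
    have h1 := ha x
    rw [hx, hx] at h1
    exact (left_eq_add.1 h1)
  have hacomm : ∀ x, (y : X →ₗ[F] X) ((a : X →ₗ[F] X) x) = (a : X →ₗ[F] X) ((y : X →ₗ[F] X) x) := fun x => by
    rw [← mul_app, hay, mul_app]
  obtain ⟨f, hf⟩ : ∃ f : X → F, ∀ v, f v = B v ((a : X →ₗ[F] X) v) := ⟨_, fun _ => rfl⟩
  have hfadd : ∀ v w, f (v + w) = f v + f w + B v w := by
    intro v w
    have h1 : B w ((a : X →ₗ[F] X) v) = B v ((a : X →ₗ[F] X) w) + B v w := by
      rw [hBs w, ← hBa ((a : X →ₗ[F] X) v) w, ← hBa ((a : X →ₗ[F] X) ((a : X →ₗ[F] X) v)), ha3, ha, hBr]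
    rw [hf, hf, hf, map_add, hBl, hBr, hBr, h1]
    have h2 := hF2 (B v ((a : X →ₗ[F] X) w))
    linear_combination h2
  have hfa : ∀ v, f ((a : X →ₗ[F] X) v) = f v := fun v => by rw [hf, hf, hBa]
  have hfy : ∀ v, f ((y : X →ₗ[F] X) v) = f v := fun v => by rw [hf, hf, ← hacomm, hBy]
  set c := y * a with hc
  have hcy : Commute y a := hay
  have ha3' : a ^ 3 = 1 := by
    apply Units.ext
    refine LinearMap.ext fun x => ?_
    exact ha3 x
  have hc15 : c ^ 15 = 1 := by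
    rw [hc, hcy.mul_pow, show 15 = 5 * 3 by norm_num, pow_mul, hy5, one_pow, one_mul, mul_comm 5 3, pow_mul, ha3',
      one_pow]
  have hfc : ∀ n : ℕ, ∀ v, f (((c ^ n : (X →ₗ[F] X)ˣ) : X →ₗ[F] X) v) = f v := by
    intro n
    induction n with
    | zero => intro v; rfl
    | succ n ih => intro v; rw [pow_succ, mul_app, ih, hc, mul_app, hfy, hfa]
  have hfree : ∀ n : ℕ, 0 < n → n < 15 → ∀ v, ((c ^ n : (X →ₗ[F] X)ˣ) : X →ₗ[F] X) v = v → v = 0 := by
    intro n hn0 hn v hv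
    have hyk : ∀ e, (n * e) % 15 = 6 → v = 0 := by
      intro e he
      have h1 := pow_app_fix hv e
      rw [← pow_mul, pow_eq_pow_mod (n * e) hc15, he, hc, hcy.mul_pow, show 6 = 5 + 1 by norm_num, pow_add y, hy5,
        one_mul, pow_one, show 5 + 1 = 3 * 2 by norm_num, pow_mul, ha3', one_pow, mul_one] at h1
      exact hyf v h1
    have hak : ∀ e, (n * e) % 15 = 10 → v = 0 := by
      intro e he
      have h1 := pow_app_fix hv e
      rw [← pow_mul, pow_eq_pow_mod (n * e) hc15, he, hc, hcy.mul_pow, show 10 = 5 * 2 by norm_num, pow_mul y, hy5,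
        one_pow, one_mul, show 5 * 2 = 3 * 3 + 1 by norm_num, pow_add, pow_mul, ha3', one_pow, one_mul, pow_one] at h1
      exact haf v h1
    interval_cases n
    · exact hyk 6 rfl
    · exact hyk 3 rfl
    · exact hyk 2 rfl
    · exact hyk 9 rfl
    · exact hak 2 rfl
    · exact hyk 1 rfl
    · exact hyk 3 rfl
    · exact hyk 12 rfl
    · exact hyk 4 rfl
    · exact hak 1 rfl
    · exact hyk 6 rfl
    · exact hyk 3 rfl
    · exact hyk 12 rfl
    · exact hyk 9 rfl
  have hcard : Nat.card {x : X // x ≠ 0} = 15 := by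
    have h1 : Nat.card X = 16 := by
      rw [Module.natCard_eq_pow_finrank (K := F), hF, hX]; norm_num
    have h2 : Nat.card X = Nat.card {x : X // x = 0} + Nat.card {x : X // ¬ x = 0} := by
      rw [← Nat.card_sum]
      exact Nat.card_congr (Equiv.sumCompl (fun x : X => x = 0)).symm
    have h3 : Nat.card {x : X // x = 0} = 1 := Nat.card_unique
    rw [h1, h3] at h2
    show Nat.card {x : X // ¬ x = 0} = 15
    omega
  have htrans : ∀ v w : X, v ≠ 0 → w ≠ 0 → ∃ n : ℕ, ((c ^ n : (X →ₗ[F] X)ˣ) : X →ₗ[F] X) v = w := by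
    intro v w hv hw
    let h : Fin 15 → {x : X // x ≠ 0} := fun i => ⟨((c ^ (i : ℕ) : (X →ₗ[F] X)ˣ) : X →ₗ[F] X) v, fun h =>
      hv (app_inj (c ^ (i : ℕ)) (by rw [h, map_zero]))⟩
    have hinj : Function.Injective h := by
      have aux : ∀ i j : Fin 15, i < j → h i ≠ h j := by
        intro i j hij heq
        have h1 : ((c ^ (i : ℕ) : (X →ₗ[F] X)ˣ) : X →ₗ[F] X) v = ((c ^ (j : ℕ) : (X →ₗ[F] X)ˣ) : X →ₗ[F] X) v :=
          congrArg Subtype.val heq
        have hlt : (i : ℕ) < j := hij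
        have h2 : (j : ℕ) = i + (j - i) := (Nat.add_sub_cancel' hlt.le).symm
        rw [h2, pow_add, mul_app] at h1
        have h3 := app_inj _ h1
        exact hv (hfree (j - i) (by omega) (by omega) v h3.symm)
      intro i j hij
      rcases lt_trichotomy i j with h' | h' | h'
      · exact absurd hij (aux i j h')
      · exact h'
      · exact absurd hij.symm (aux j i h')
    have hbij := hinj.bijective_of_nat_card_le (by rw [hcard]; simp)
    obtain ⟨i, hi⟩ := hbij.2 ⟨w, hw⟩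
    exact ⟨i, congrArg Subtype.val hi⟩
  have hconst : ∀ v w : X, v ≠ 0 → w ≠ 0 → f v = f w := by
    intro v w hv hw
    obtain ⟨n, hn⟩ := htrans v w hv hw
    rw [← hn, hfc]
  obtain ⟨v, w0, hvw⟩ := hB
  have hv : v ≠ 0 := by
    rintro rfl
    apply hvw
    have h1 := hBl 0 0 w0
    rw [add_zero] at h1
    exact (left_eq_add.1 h1)
  have hBc : ∀ w, w ≠ 0 → w ≠ v → B v w = f v := by
    intro w hw hwv
    have h1 := hfadd v w
    have h2 : v + w ≠ 0 := by
      intro h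
      apply hwv
      have h3 := add_self hF v
      rw [← h3] at h
      exact add_left_cancel h
    rw [hconst (v + w) v h2 hv, hconst w v hw hv, hF2, zero_add] at h1
    exact h1.symm
  have hw0 : w0 ≠ 0 := by
    rintro rfl
    apply hvw
    have h1 := hBr v 0 0
    rw [add_zero] at h1
    exact (left_eq_add.1 h1)
  have hw0v : w0 ≠ v := by
    rintro rfl
    exact hvw (hB0 _)
  have hfv : f v ≠ 0 := by
    rw [← hBc w0 hw0 hw0v]; exact hvw
  -- `w = a v`, `w' = y v`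
  have hav0 : (a : X →ₗ[F] X) v ≠ 0 := fun h => hv (app_inj a (by rw [h, map_zero]))
  have hav1 : (a : X →ₗ[F] X) v ≠ v := fun h => hv (haf v h)
  have hyv0 : (y : X →ₗ[F] X) v ≠ 0 := fun h => hv (app_inj y (by rw [h, map_zero]))
  have hyv1 : (y : X →ₗ[F] X) v ≠ v := fun h => hv (hyf v h)
  -- `y v ≠ a ^ k v`
  have hy5c : c ^ 6 = y := by
    rw [hc, hcy.mul_pow, show 6 = 5 + 1 by norm_num, pow_add y, hy5,
        one_mul, pow_one, show 5 + 1 = 3 * 2 by norm_num, pow_mul, ha3', one_pow, mul_one]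
  have hac : c ^ 10 = a := by
    rw [hc, hcy.mul_pow, show 10 = 5 * 2 by norm_num, pow_mul y, hy5,
        one_pow, one_mul, show 5 * 2 = 3 * 3 + 1 by norm_num, pow_add, pow_mul, ha3', one_pow, one_mul, pow_one]
  have hne1 : (y : X →ₗ[F] X) v ≠ (a : X →ₗ[F] X) v := by
    intro h
    rw [← hy5c, ← hac, show 10 = 6 + 4 by norm_num, pow_add c 6 4, mul_app] at h
    exact hv (hfree 4 (by norm_num) (by norm_num) v (app_inj _ h).symm)
  have hne2 : (y : X →ₗ[F] X) v ≠ (a : X →ₗ[F] X) v + v := by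
    intro h
    rw [← ha v, ← mul_app, ← hy5c, ← hac, ← pow_add, pow_eq_pow_mod (10 + 10) hc15,
      show (10 + 10) % 15 = 5 by norm_num, show 6 = 5 + 1 by norm_num, pow_add c 5 1, mul_app] at h
    exact hv (hfree 1 (by norm_num) (by norm_num) v (app_inj _ h))
  have hs0 : (a : X →ₗ[F] X) v + (y : X →ₗ[F] X) v ≠ 0 := by
    intro h
    apply hne1
    have h3 := add_self hF ((a : X →ₗ[F] X) v)
    rw [← h3] at h
    exact add_left_cancel h
  have hs1 : (a : X →ₗ[F] X) v + (y : X →ₗ[F] X) v ≠ v := by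
    intro h
    apply hne2
    calc (y : X →ₗ[F] X) v = (a : X →ₗ[F] X) v + (a : X →ₗ[F] X) v + (y : X →ₗ[F] X) v := by
          rw [add_self hF, zero_add]
      _ = (a : X →ₗ[F] X) v + v := by rw [add_assoc, h]
  have h1 := hBr v ((a : X →ₗ[F] X) v) ((y : X →ₗ[F] X) v)
  rw [hBc _ hs0 hs1, hBc _ hav0 hav1, hBc _ hyv0 hyv1, hF2] at h1
  exact hfv h1

end Cfsg.Agent.H99.O8
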