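import Cfsg.Agent.H99.O8.Fix

/-!
# S3943, the row `Ω⁺₈(2)` (helper99): solvable subgroups of `O⁺₈(2)` containing an element of order 15
-/

set_option autoImplicit false
set_option linter.unusedSectionVars false

namespace Cfsg.Agent.H99.O8

open Module Subgroup QuadraticMap Cfsg.Agent.H518.DghpFix Cfsg.Agent.H99.AS Cfsg.Agent.LieClassical.OrthCore
  Cfsg.Agent.LieClassical.OrthTrans

universe u v w

section Rank

variable {F : Type u} [Field F] [Fintype F] {X : Type v} [AddCommGroup X] [Module F X] [FiniteDimensional F X]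

theorem conj_iter {G : Type*} [Group G] {a y : G} {k : ℕ} (h : a * y * a⁻¹ = y ^ k) (j : ℕ) :
    a ^ j * y * (a ^ j)⁻¹ = y ^ (k ^ j) := by
  induction j with
  | zero => simp
  | succ j ih =>
    have e1 : a ^ (j + 1) * y * (a ^ (j + 1))⁻¹ = a * (a ^ j * y * (a ^ j)⁻¹) * a⁻¹ := by
      rw [pow_succ']; group
    have e2 : a * y ^ (k ^ j) * a⁻¹ = (a * y * a⁻¹) ^ (k ^ j) := by rw [conj_pow]
    rw [e1, ih, e2, h, ← pow_mul, pow_succ']

theorem sq_five : ∀ c : ZMod 5, c ^ 2 = 1 → c ≠ 1 → c = 4 := by decide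

/-- elements normalising a Singer-like cyclic group of order 5 -/
theorem rank_two (hF : Fintype.card F = 2) (hX : finrank F X = 4) {a y : (X →ₗ[F] X)ˣ} {r : ℕ} (hr : r.Prime)
    (har : a ^ r = 1) (ha1 : a ≠ 1) (hy : y ^ 5 = 1) (hyf : ∀ u, (y : X →ₗ[F] X) u = u → u = 0)
    (hn : a * y * a⁻¹ ∈ zpowers y) (hrk : finrank F ↥(LinearMap.range ((a : X →ₗ[F] X) - 1)) ≤ 2) :
    r = 2 ∧ finrank F ↥(LinearMap.range ((a : X →ₗ[F] X) - 1)) = 2 := by
  have hfin : Finite (X →ₗ[F] X)ˣ := finite_units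
  have hXn : Nontrivial X := Module.nontrivial_of_finrank_pos (R := F) (by omega)
  have hp5 : Fact (Nat.Prime 5) := ⟨by norm_num⟩
  have hy1 : y ≠ 1 := by
    intro h
    obtain ⟨z, hz⟩ := exists_ne (0 : X)
    exact hz (hyf z (by rw [h]; rfl))
  have hyo : orderOf y = 5 := orderOf_eq_prime hy hy1
  have htop : finrank F (⊤ : Submodule F X) = 4 := by rw [finrank_top, hX]
  have hker : ∀ {g : (X →ₗ[F] X)ˣ}, LinearMap.ker ((g : X →ₗ[F] X) - 1) = fixS (g : X →ₗ[F] X) := by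
    intro g
    ext v
    rw [LinearMap.mem_ker, LinearMap.sub_apply, Module.End.one_apply, sub_eq_zero]
    rfl
  have hrn := LinearMap.finrank_range_add_finrank_ker ((a : X →ₗ[F] X) - 1)
  rw [hker, hX] at hrn
  -- the commuting case is impossible
  have hncomm : ¬ a * y = y * a := by
    intro hc
    rcases irr_of hF hy htop (fun u _ hu => hyf u hu) (fixS (a : X →ₗ[F] X)) le_top (fun w hw => by
      show (a : X →ₗ[F] X) ((y : X →ₗ[F] X) w) = (y : X →ₗ[F] X) w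
      rw [← mul_app, hc, mul_app, show (a : X →ₗ[F] X) w = w from hw]) with h | h
    · rw [h, finrank_bot] at hrn
      omega
    · apply ha1
      apply Units.ext
      refine LinearMap.ext fun x => ?_
      have : x ∈ fixS (a : X →ₗ[F] X) := h ▸ Submodule.mem_top
      exact this
  obtain ⟨k, hk⟩ := (mem_powers_iff_mem_zpowers.2 hn)
  have hk : a * y * a⁻¹ = y ^ k := hk.symm
  have hkr : ((k : ℕ) : ZMod 5) ^ r = 1 := by
    have h1 := conj_iter hk r
    rw [har, one_mul, inv_one, mul_one] at h1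
    have h2 : y ^ 1 = y ^ (k ^ r) := by rw [pow_one]; exact h1
    rw [pow_eq_pow_iff_modEq, hyo] at h2
    have h3 := (ZMod.natCast_eq_natCast_iff _ _ _).2 h2
    rw [Nat.cast_pow, Nat.cast_one] at h3
    exact h3.symm
  have hk1 : ((k : ℕ) : ZMod 5) ≠ 1 := by
    intro h
    apply hncomm
    have h1 : k ≡ 1 [MOD 5] := (ZMod.natCast_eq_natCast_iff _ _ _).1 (by rw [h, Nat.cast_one])
    rw [← hyo, ← pow_eq_pow_iff_modEq, pow_one] at h1
    rw [h1] at hk
    exact mul_inv_eq_iff_eq_mul.1 hk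
  have hr2 : r = 2 := by
    by_contra hne
    apply hk1
    have h0 : ((k : ℕ) : ZMod 5) ≠ 0 := by
      intro h
      rw [h, zero_pow hr.ne_zero] at hkr
      exact zero_ne_one hkr
    have h4 : ((k : ℕ) : ZMod 5) ^ 4 = 1 := ZMod.pow_card_sub_one_eq_one h0
    have h5 : orderOf ((k : ℕ) : ZMod 5) ∣ Nat.gcd r 4 :=
      Nat.dvd_gcd (orderOf_dvd_of_pow_eq_one hkr) (orderOf_dvd_of_pow_eq_one h4)
    have h6 : Nat.gcd r 4 = 1 := by
      have : Nat.Coprime r 2 := (Nat.coprime_primes hr Nat.prime_two).2 hne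
      have h7 : Nat.Coprime r (2 ^ 2) := this.pow_right 2
      exact h7
    rw [h6, Nat.dvd_one, orderOf_eq_one_iff] at h5
    exact h5
  refine ⟨hr2, ?_⟩
  rw [hr2] at har hkr
  have hk4 : ((k : ℕ) : ZMod 5) = 4 := by
    exact sq_five _ hkr hk1
  have hinv : a * y = y⁻¹ * a := by
    have h1 : k ≡ 4 [MOD 5] := (ZMod.natCast_eq_natCast_iff _ _ _).1 (by rw [hk4]; rfl)
    rw [← hyo, ← pow_eq_pow_iff_modEq] at h1
    have h2 : y ^ 4 = y⁻¹ := by
      apply eq_inv_of_mul_eq_one_left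
      rw [← pow_succ, hy]
    rw [h1, h2] at hk
    exact mul_inv_eq_iff_eq_mul.1 hk
  -- `C(a)` meets `y² C(a)` trivially
  have h2 : finrank F ↥(fixS (a : X →ₗ[F] X)) + finrank F ↥(fixS (a : X →ₗ[F] X)) ≤ 4 := by
    have hinj : Function.Injective ((y ^ 2 : (X →ₗ[F] X)ˣ) : X →ₗ[F] X) := fun v w h => app_inj _ h
    have h3 : finrank F ↥((fixS (a : X →ₗ[F] X)).map ((y ^ 2 : (X →ₗ[F] X)ˣ) : X →ₗ[F] X)) =
        finrank F ↥(fixS (a : X →ₗ[F] X)) := ((Submodule.equivMapOfInjective _ hinj _).finrank_eq).symm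
    have h4 : fixS (a : X →ₗ[F] X) ⊓ (fixS (a : X →ₗ[F] X)).map ((y ^ 2 : (X →ₗ[F] X)ˣ) : X →ₗ[F] X) = ⊥ := by
      rw [Submodule.eq_bot_iff]
      rintro v ⟨hv1, w, hw, hv2⟩
      have hv1 : (a : X →ₗ[F] X) v = v := hv1
      have hw : (a : X →ₗ[F] X) w = w := hw
      have e1 : a * y * y ^ 2 = y ^ 2 * a := by
        have e2 : a * y * y ^ 2 = y⁻¹ ^ 3 * a := by
          have e3 : ∀ n : ℕ, a * y ^ n = y⁻¹ ^ n * a := by
            intro n
            induction n with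
            | zero => simp
            | succ n ih => rw [pow_succ, ← mul_assoc, ih, mul_assoc, hinv, ← mul_assoc, ← pow_succ]
          rw [← e3 3, pow_succ' y 2, mul_assoc]
        have e3 : y⁻¹ ^ 3 = y ^ 2 := by
          rw [inv_pow]
          apply inv_eq_of_mul_eq_one_left
          rw [← pow_add, hy]
        rw [e2, e3]
      have e4 : (a : X →ₗ[F] X) ((y : X →ₗ[F] X) v) = v := by
        rw [← hv2, ← mul_app, ← mul_app, e1, mul_app, hw]
      exact hyf v (app_inj a (by rw [e4, hv1]))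
    have h5 := Submodule.finrank_sup_add_finrank_inf_eq (fixS (a : X →ₗ[F] X))
      ((fixS (a : X →ₗ[F] X)).map ((y ^ 2 : (X →ₗ[F] X)ˣ) : X →ₗ[F] X))
    rw [h4, finrank_bot, h3, add_zero] at h5
    rw [← h5, ← hX]
    exact Submodule.finrank_le _
  omega

end Rank

variable {F : Type u} [Field F] [Fintype F] {V : Type v} [AddCommGroup V] [Module F V] [FiniteDimensional F V]

/-- the projection to `U ⊕ P` along `H` -/
def prY (Q : QuadraticForm F V) (u1 u2 : V) : V →ₗ[F] V :=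
  LinearMap.id - (polarBilin Q u2).smulRight u1 - (polarBilin Q u1).smulRight u2

variable {Q : QuadraticForm F V} {y z : V ≃ₗ[F] V} {U P : Submodule F V} {u1 u2 : V}

omit [Fintype F] [FiniteDimensional F V] in
theorem prY_apply (v : V) : prY Q u1 u2 v = v - polar Q u2 v • u1 - polar Q u1 v • u2 := by
  simp only [prY, LinearMap.sub_apply, LinearMap.id_apply, LinearMap.smulRight_apply, polarBilin_apply_apply]

namespace Cfg

variable (C : Cfg Q y z U P u1 u2)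
include C

theorem prY_of {u p : V} (hu : u ∈ U) (hp : p ∈ P) (a b : F) : prY Q u1 u2 (u + p + (a • u1 + b • u2)) = u + p := by
  rw [prY_apply, C.polar1 hu hp, C.polar2 hu hp]; abel

theorem mem_Y {v : V} : v ∈ U ⊔ P ↔ polar Q u1 v = 0 ∧ polar Q u2 v = 0 := by
  constructor
  · intro h
    obtain ⟨u, hu, p, hp, rfl⟩ := Submodule.mem_sup.1 h
    rw [polar_add_right, polar_add_right, C.U1 u hu, C.U2 u hu, C.P1 p hp, C.P2 p hp, add_zero]
    exact ⟨rfl, rfl⟩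
  · intro h
    obtain ⟨u, hu, p, hp, a, b, rfl⟩ := C.top v
    rw [C.polar1 hu hp, C.polar2 hu hp] at h
    rw [h.1, h.2, zero_smul, zero_smul, add_zero, add_zero]
    exact Submodule.mem_sup.2 ⟨u, hu, p, hp, rfl⟩

theorem prY_mem (v : V) : prY Q u1 u2 v ∈ U ⊔ P := by
  obtain ⟨u, hu, p, hp, a, b, rfl⟩ := C.top v
  rw [C.prY_of hu hp]
  exact Submodule.mem_sup.2 ⟨u, hu, p, hp, rfl⟩

theorem prY_self {v : V} (hv : v ∈ U ⊔ P) : prY Q u1 u2 v = v := by
  rw [prY_apply, (C.mem_Y.1 hv).1, (C.mem_Y.1 hv).2, zero_smul, zero_smul, sub_zero, sub_zero]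

theorem mem_w {w : V} (hw : w = u1 ∨ w = u2 ∨ w = u1 + u2) {v : V} (hv : v ∈ U ⊔ P) : polar Q w v = 0 := by
  have h := C.mem_Y.1 hv
  rcases hw with rfl | rfl | rfl
  · exact h.1
  · exact h.2
  · rw [polar_add_left, h.1, h.2, add_zero]

theorem w_dec {w : V} (hw : w = u1 ∨ w = u2 ∨ w = u1 + u2) {v : V} (h : polar Q w v = 0) :
    v = prY Q u1 u2 v ∨ v = prY Q u1 u2 v + w := by
  obtain ⟨u, hu, p, hp, a, b, rfl⟩ := C.top v
  rw [C.prY_of hu hp]
  rcases hw with rfl | rfl | rfl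
  · rw [C.polar1 hu hp] at h
    rw [h, zero_smul, add_zero]
    rcases eq01 C.hF a with rfl | rfl
    · left; rw [zero_smul, add_zero]
    · right; rw [one_smul]
  · rw [C.polar2 hu hp] at h
    rw [h, zero_smul, zero_add]
    rcases eq01 C.hF b with rfl | rfl
    · left; rw [zero_smul, add_zero]
    · right; rw [one_smul]
  · rw [polar_add_left, C.polar1 hu hp, C.polar2 hu hp] at h
    rcases eq01 C.hF a with rfl | rfl <;> rcases eq01 C.hF b with rfl | rfl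
    · left; rw [zero_smul, zero_smul, add_zero, add_zero]
    · rw [add_zero] at h; exact absurd h one_ne_zero
    · rw [zero_add] at h; exact absurd h one_ne_zero
    · right; rw [one_smul, one_smul]

theorem prY_w {w : V} (hw : w = u1 ∨ w = u2 ∨ w = u1 + u2) : prY Q u1 u2 w = 0 := by
  have key : ∀ a b : F, prY Q u1 u2 (a • u1 + b • u2) = 0 := by
    intro a b
    have h := C.prY_of U.zero_mem P.zero_mem a b
    rwa [add_zero, zero_add] at h
  rcases hw with rfl | rfl | rfl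
  · have := key 1 0
    rwa [one_smul, zero_smul, add_zero] at this
  · have := key 0 1
    rwa [one_smul, zero_smul, zero_add] at this
  · have := key 1 1
    rwa [one_smul, one_smul] at this

theorem prY_comp {w : V} (hw : w = u1 ∨ w = u2 ∨ w = u1 + u2) {m : V ≃ₗ[F] V} (hm : m w = w) {v : V}
    (hv : polar Q w v = 0) : prY Q u1 u2 (m v) = prY Q u1 u2 (m (prY Q u1 u2 v)) := by
  rcases C.w_dec hw hv with h | h
  · rw [← h]
  · conv_lhs => rw [h]
    rw [map_add, hm, map_add, C.prY_w hw, add_zero]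

theorem polar_prY {w : V} (hw : w = u1 ∨ w = u2 ∨ w = u1 + u2) {a b : V} (ha : polar Q w a = 0)
    (hb : polar Q w b = 0) : polar Q (prY Q u1 u2 a) (prY Q u1 u2 b) = polar Q a b := by
  have ha' : polar Q a w = 0 := by rw [polar_comm]; exact ha
  have hpa : polar Q (prY Q u1 u2 a) w = 0 := by rw [polar_comm]; exact C.mem_w hw (C.prY_mem a)
  have hww : polar Q w w = 0 := polar_self0 C.hF w
  have e1 : polar Q a b = polar Q (prY Q u1 u2 a) b := by
    rcases C.w_dec hw ha with h | h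
    · rw [← h]
    · conv_lhs => rw [h]
      rw [polar_add_left, hb, add_zero]
  have e2 : polar Q (prY Q u1 u2 a) b = polar Q (prY Q u1 u2 a) (prY Q u1 u2 b) := by
    rcases C.w_dec hw hb with h | h
    · rw [← h]
    · conv_lhs => rw [h]
      rw [polar_add_right, hpa, add_zero]
  rw [e1, e2]

/-- the fixed vector is orthogonal to its images -/
theorem polar_m {w : V} {M : Subgroup (V ≃ₗ[F] V)} (hMO : M ≤ O Q) (hMw : ∀ m ∈ M, m w = w) {m : V ≃ₗ[F] V}
    (hm : m ∈ M) {v : V} (hv : polar Q w v = 0) : polar Q w (m v) = 0 := by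
  have h := polar_map (hMO hm) w v
  rw [hMw m hm] at h
  rw [h, hv]

end Cfg

/-- the action on `W ≤ U ⊕ P` through the projection -/
def rho (C : Cfg Q y z U P u1 u2) {w : V} (hw : w = u1 ∨ w = u2 ∨ w = u1 + u2) (M : Subgroup (V ≃ₗ[F] V))
    (hMO : M ≤ O Q) (hMw : ∀ m ∈ M, m w = w) (W : Submodule F V) (hWY : W ≤ U ⊔ P)
    (hW : ∀ m ∈ M, ∀ v ∈ W, prY Q u1 u2 (m v) ∈ W) : M →* (W →ₗ[F] W) where
  toFun m := ((prY Q u1 u2) ∘ₗ ((m : V ≃ₗ[F] V) : V →ₗ[F] V)).restrict (hW m m.2)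
  map_one' := LinearMap.ext fun v => Subtype.ext (C.prY_self (hWY v.2))
  map_mul' a b := LinearMap.ext fun v => Subtype.ext
    (C.prY_comp hw (hMw a a.2) (C.polar_m hMO hMw b.2 (C.mem_w hw (hWY v.2))))

/-- the action by units -/
def rhoU (C : Cfg Q y z U P u1 u2) {w : V} (hw : w = u1 ∨ w = u2 ∨ w = u1 + u2) (M : Subgroup (V ≃ₗ[F] V))
    (hMO : M ≤ O Q) (hMw : ∀ m ∈ M, m w = w) (W : Submodule F V) (hWY : W ≤ U ⊔ P)
    (hW : ∀ m ∈ M, ∀ v ∈ W, prY Q u1 u2 (m v) ∈ W) : M →* (W →ₗ[F] W)ˣ :=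
  (rho C hw M hMO hMw W hWY hW).toHomUnits

theorem rhoU_apply (C : Cfg Q y z U P u1 u2) {w : V} (hw : w = u1 ∨ w = u2 ∨ w = u1 + u2) (M : Subgroup (V ≃ₗ[F] V))
    (hMO : M ≤ O Q) (hMw : ∀ m ∈ M, m w = w) (W : Submodule F V) (hWY : W ≤ U ⊔ P)
    (hW : ∀ m ∈ M, ∀ v ∈ W, prY Q u1 u2 (m v) ∈ W) (m : M) (v : W) :
    (((rhoU C hw M hMO hMw W hWY hW m : W →ₗ[F] W) v : W) : V) = prY Q u1 u2 ((m : V ≃ₗ[F] V) v) := rfl

namespace Cfg

variable (C : Cfg Q y z U P u1 u2)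
include C

theorem y_Y {v : V} (hv : v ∈ U ⊔ P) : y v ∈ U ⊔ P := by
  have := add_mem (Submodule.mem_sup_left (C.yU v) : y v - v ∈ U ⊔ P) hv
  rwa [sub_add_cancel] at this

theorem z_Y {v : V} (hv : v ∈ U ⊔ P) : z v ∈ U ⊔ P := by
  have := add_mem (Submodule.mem_sup_right (C.zP v) : z v - v ∈ U ⊔ P) hv
  rwa [sub_add_cancel] at this

theorem fix_Y {v : V} (hv : v ∈ U ⊔ P) (h : y v = v) : v ∈ P := by
  obtain ⟨u, hu, p, hp, rfl⟩ := Submodule.mem_sup.1 hv
  have h1 := C.y_fix_iff hu hp 0 0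
  rw [zero_smul, zero_smul, add_zero, add_zero] at h1
  rw [h1.1 h, zero_add]
  exact hp

theorem fix_Y' {v : V} (hv : v ∈ U ⊔ P) (h : z v = v) : v ∈ U := by
  obtain ⟨u, hu, p, hp, rfl⟩ := Submodule.mem_sup.1 hv
  have h1 := C.z_fix_iff hu hp 0 0
  rw [zero_smul, zero_smul, add_zero, add_zero] at h1
  rw [h1.1 h, add_zero]
  exact hu

theorem finrank_Y : finrank F ↥(U ⊔ P) = 6 := by
  have h1 := Submodule.finrank_sup_add_finrank_inf_eq U P
  have h2 : U ⊓ P = ⊥ := by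
    rw [Submodule.eq_bot_iff]
    rintro v ⟨h2, h3⟩
    exact C.yUf v h2 (C.yP v h3)
  rw [h2, finrank_bot, C.hU, C.hP] at h1
  omega

theorem round {w : V} (hw : w = u1 ∨ w = u2 ∨ w = u1 + u2) {M : Subgroup (V ≃ₗ[F] V)} (hMO : M ≤ O Q)
    (hMw : ∀ m ∈ M, m w = w) {m : V ≃ₗ[F] V} (hm : m ∈ M) {v : V} (hv : v ∈ U ⊔ P) :
    prY Q u1 u2 (m (prY Q u1 u2 (m⁻¹ v))) = v := by
  rw [← C.prY_comp hw (hMw m hm) (C.polar_m hMO hMw (inv_mem hm) (C.mem_w hw hv)),
    show m (m⁻¹ v) = v from LinearEquiv.apply_symm_apply m v, C.prY_self hv]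

theorem dualP {w : V} (hw : w = u1 ∨ w = u2 ∨ w = u1 + u2) {M : Subgroup (V ≃ₗ[F] V)} (hMO : M ≤ O Q)
    (hMw : ∀ m ∈ M, m w = w) (h : ∀ m ∈ M, ∀ u ∈ U, prY Q u1 u2 (m u) ∈ U) :
    ∀ m ∈ M, ∀ p ∈ P, prY Q u1 u2 (m p) ∈ P := by
  intro m hm p hp
  obtain ⟨u', hu', p', hp', he⟩ := Submodule.mem_sup.1 (C.prY_mem (m p))
  have h0 : u' = 0 := by
    apply C.ndU hu'
    intro u hu
    have hu2 := h m⁻¹ (inv_mem hm) u hu
    have e1 := C.round hw hMO hMw hm (Submodule.mem_sup_left hu : u ∈ U ⊔ P)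
    have e2 : polar Q u (prY Q u1 u2 (m p)) = 0 := by
      conv_lhs => rw [← e1]
      rw [C.polar_prY hw (C.polar_m hMO hMw hm (C.mem_w hw (Submodule.mem_sup_left hu2)))
        (C.polar_m hMO hMw hm (C.mem_w hw (Submodule.mem_sup_right hp))), polar_map (hMO hm), C.UP _ hu2 p hp]
    rw [← he, polar_add_right, C.UP u hu p' hp', add_zero] at e2
    rw [polar_comm]
    exact e2
  rw [← he, h0, zero_add]
  exact hp'

theorem dualU {w : V} (hw : w = u1 ∨ w = u2 ∨ w = u1 + u2) {M : Subgroup (V ≃ₗ[F] V)} (hMO : M ≤ O Q)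
    (hMw : ∀ m ∈ M, m w = w) (h : ∀ m ∈ M, ∀ u ∈ P, prY Q u1 u2 (m u) ∈ P) :
    ∀ m ∈ M, ∀ p ∈ U, prY Q u1 u2 (m p) ∈ U := by
  intro m hm p hp
  obtain ⟨u', hu', p', hp', he⟩ := Submodule.mem_sup.1 (C.prY_mem (m p))
  have h0 : p' = 0 := by
    apply C.ndP hp'
    intro u hu
    have hu2 := h m⁻¹ (inv_mem hm) u hu
    have e1 := C.round hw hMO hMw hm (Submodule.mem_sup_right hu : u ∈ U ⊔ P)
    have e2 : polar Q u (prY Q u1 u2 (m p)) = 0 := by
      conv_lhs => rw [← e1]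
      rw [C.polar_prY hw (C.polar_m hMO hMw hm (C.mem_w hw (Submodule.mem_sup_right hu2)))
        (C.polar_m hMO hMw hm (C.mem_w hw (Submodule.mem_sup_left hp))), polar_map (hMO hm), polar_comm,
        C.UP _ hp _ hu2]
    rw [← he, polar_add_right, polar_comm Q u u', C.UP u' hu' u hu, zero_add] at e2
    rw [polar_comm]
    exact e2
  rw [← he, h0, add_zero]
  exact hu'

/-- **`U` and `P` are invariant modulo `w`.** -/
theorem inv_UP {M : Subgroup (V ≃ₗ[F] V)} [Finite M] (hsol : Group.IsSolvable M) (hMO : M ≤ O Q) (hy : y ∈ M)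
    (hz : z ∈ M) {w : V} (hw : w = u1 ∨ w = u2 ∨ w = u1 + u2) (hMw : ∀ m ∈ M, m w = w) :
    (∀ m ∈ M, ∀ u ∈ U, prY Q u1 u2 (m u) ∈ U) ∧ (∀ m ∈ M, ∀ p ∈ P, prY Q u1 u2 (m p) ∈ P) := by
  have hX : ∀ m ∈ M, ∀ v ∈ U ⊔ P, prY Q u1 u2 (m v) ∈ U ⊔ P := fun m _ v _ => C.prY_mem _
  set f := rhoU C hw M hMO hMw (U ⊔ P) le_rfl hX with hf
  by_cases hirr : ∀ W : Submodule F ↥(U ⊔ P), (∀ m, ∀ v ∈ W, (f m : ↥(U ⊔ P) →ₗ[F] ↥(U ⊔ P)) v ∈ W) → W = ⊥ ∨ W = ⊤
  · exfalso
    have hfy : ∀ v : ↥(U ⊔ P), (((f ⟨y, hy⟩ : ↥(U ⊔ P) →ₗ[F] ↥(U ⊔ P)) v : ↥(U ⊔ P)) : V) = y v := fun v =>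
      C.prY_self (C.y_Y v.2)
    refine irr6 C.hF C.finrank_Y hsol f hirr (y := ⟨y, hy⟩) ?_ (U := U.comap (U ⊔ P).subtype)
      (Z := P.comap (U ⊔ P).subtype) (by rw [C.finrank_comap le_sup_left, C.hU]) ?_ ?_
      (by rw [C.finrank_comap le_sup_right, C.hP]) ?_ (fun x w => polar Q (x : V) w)
      (fun x w v => polar_add_left _ _ _ _) (fun x w => polar_comm _ _ _) (fun x => polar_self0 C.hF _)
      (C.nd_comap le_sup_left) ?_
    · rw [← map_pow, show (⟨y, hy⟩ : M) ^ 5 = 1 from Subtype.ext C.y5, map_one]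
    · ext x
      constructor
      · intro hx
        obtain ⟨v, hv, he⟩ := C.U_surj hx
        refine ⟨⟨v, Submodule.mem_sup_left hv⟩, Subtype.ext ?_⟩
        rw [LinearMap.sub_apply, Module.End.one_apply, Submodule.coe_sub, hfy]
        exact he
      · rintro ⟨v, rfl⟩
        show (((f ⟨y, hy⟩ : ↥(U ⊔ P) →ₗ[F] ↥(U ⊔ P)) v : ↥(U ⊔ P)) : V) - (v : V) ∈ U
        rw [hfy]
        exact C.yU v
    · intro u hu h
      refine Subtype.ext (C.yUf u hu ?_)
      rw [← hfy, h]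
    · ext x
      constructor
      · intro hx
        refine Subtype.ext ?_
        show (((f ⟨y, hy⟩ : ↥(U ⊔ P) →ₗ[F] ↥(U ⊔ P)) x : ↥(U ⊔ P)) : V) = x
        rw [hfy]
        exact C.yP x hx
      · intro hx
        exact C.fix_Y x.2 ((hfy x).symm.trans (congrArg Subtype.val hx))
    · intro m x v
      show polar Q (prY Q u1 u2 ((m : V ≃ₗ[F] V) x)) (prY Q u1 u2 ((m : V ≃ₗ[F] V) v)) = polar Q (x : V) v
      rw [C.polar_prY hw (C.polar_m hMO hMw m.2 (C.mem_w hw x.2)) (C.polar_m hMO hMw m.2 (C.mem_w hw v.2)),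
        polar_map (hMO m.2)]
  · push Not at hirr
    obtain ⟨W, hW, hW1, hW2⟩ := hirr
    set W0 := W.map (U ⊔ P).subtype with hW0
    have hW0Y : W0 ≤ U ⊔ P := Submodule.map_subtype_le _ _
    have hinv : ∀ m ∈ M, ∀ v ∈ W0, prY Q u1 u2 (m v) ∈ W0 := by
      rintro m hm _ ⟨v, hv, rfl⟩
      exact ⟨_, hW ⟨m, hm⟩ v hv, rfl⟩
    have hW0y : ∀ v ∈ W0, y v ∈ W0 := by
      intro v hv
      have h1 := hinv y hy v hv
      rwa [C.prY_self (C.y_Y (hW0Y hv))] at h1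
    have hW0z : ∀ v ∈ W0, z v ∈ W0 := by
      intro v hv
      have h1 := hinv z hz v hv
      rwa [C.prY_self (C.z_Y (hW0Y hv))] at h1
    have hne1 : W0 ≠ ⊥ := fun h => hW1 (Submodule.map_injective_of_injective (U ⊔ P).subtype_injective
      (h.trans (Submodule.map_bot _).symm))
    have hne2 : W0 ≠ U ⊔ P := by
      intro h
      apply hW2
      rw [eq_top_iff]
      rintro ⟨x, hx⟩ _
      have hx' := hx
      rw [← h] at hx'
      obtain ⟨v, hv, he⟩ := hx'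
      have : v = ⟨x, hx⟩ := Subtype.ext he
      rwa [← this]
    by_cases hyX : ∀ x ∈ W0, y x = x
    · have hWP : W0 ≤ P := fun v hv => C.fix_Y (hW0Y hv) (hyX v hv)
      have hPW : P ≤ W0 := by
        by_contra hcon
        apply hne1
        rw [Submodule.eq_bot_iff]
        intro v hv
        by_contra hv0
        exact hcon (C.finrank_P_lt hW0z hv (fun h => hv0 (C.zPf v (hWP hv) h)))
      have hWe : W0 = P := le_antisymm hWP hPW
      rw [hWe] at hinv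
      exact ⟨C.dualU hw hMO hMw hinv, hinv⟩
    · push Not at hyX
      obtain ⟨x, hx, hxy⟩ := hyX
      have hUW := C.finrank_U_lt hW0y hx hxy
      have hzX : ∀ x ∈ W0, z x = x := by
        by_contra hcon
        push Not at hcon
        obtain ⟨x', hx', hxz⟩ := hcon
        exact hne2 (le_antisymm hW0Y (sup_le hUW (C.finrank_P_lt hW0z hx' hxz)))
      have hWe : W0 = U := le_antisymm (fun v hv => C.fix_Y' (hW0Y hv) (hzX v hv)) hUW
      rw [hWe] at hinv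
      exact ⟨hinv, C.dualP hw hMO hMw hinv⟩

end Cfg

/-- `[V, x]` -/
def RR (x : V ≃ₗ[F] V) : Submodule F V := LinearMap.range ((x : V →ₗ[F] V) - 1)

omit [Fintype F] [FiniteDimensional F V] in
theorem mem_RR {x : V ≃ₗ[F] V} {v : V} : v ∈ RR x ↔ ∃ w, x w - w = v := Iff.rfl

omit [Fintype F] [FiniteDimensional F V] in
/-- `C_V(x) ⊥ [V, x]` -/
theorem polar_RR {x : V ≃ₗ[F] V} (hx : x ∈ O Q) {u v : V} (hu : x u = u) (hv : v ∈ RR x) : polar Q u v = 0 := by
  obtain ⟨w, rfl⟩ := mem_RR.1 hv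
  have h := polar_map hx u w
  rw [hu] at h
  rw [polar_sub_right, h, sub_self]

namespace Cfg

variable (C : Cfg Q y z U P u1 u2)
include C

/-- **The three cases.** -/
theorem three_cases {M : Subgroup (V ≃ₗ[F] V)} [Finite M] (hsol : Group.IsSolvable M) (hMO : M ≤ O Q) (hy : y ∈ M)
    (hz : z ∈ M) {w : V} (hw : w = u1 ∨ w = u2 ∨ w = u1 + u2) (hMw : ∀ m ∈ M, m w = w) {x : V ≃ₗ[F] V} (hx : x ∈ M)
    {r : ℕ} (hr : r.Prime) (hxr : x ^ r = 1) (hR : finrank F (RR x) ≤ 2) :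
    w ∈ RR x ∨ (∀ v ∈ RR x, ∃ p ∈ P, v = p ∨ v = p + w) ∨
      (r = 2 ∧ finrank F (RR x) = 2 ∧ ∀ v ∈ RR x, ∃ u ∈ U, v = u ∨ v = u + w) := by
  obtain ⟨hU, hP⟩ := C.inv_UP hsol hMO hy hz hw hMw
  by_cases hwR : w ∈ RR x
  · exact Or.inl hwR
  right
  set f := rhoU C hw M hMO hMw U le_sup_left hU with hf
  have hfy : ∀ v : U, (((f ⟨y, hy⟩ : U →ₗ[F] U) v : U) : V) = y v := fun v =>
    C.prY_self (C.y_Y (Submodule.mem_sup_left v.2))
  have hdec : ∀ v ∈ RR x, v = prY Q u1 u2 v ∨ v = prY Q u1 u2 v + w := fun v hv =>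
    C.w_dec hw (polar_RR (hMO hx) (hMw x hx) hv)
  by_cases ha : f ⟨x, hx⟩ = 1
  · left
    have hxu : ∀ u ∈ U, x u = u := by
      intro u hu
      have h1 : prY Q u1 u2 (x u) = u := congrArg (fun g : (U →ₗ[F] U)ˣ => (((g : U →ₗ[F] U) ⟨u, hu⟩ : U) : V)) ha
      rcases C.w_dec hw (C.polar_m hMO hMw hx (C.mem_w hw (Submodule.mem_sup_left hu))) with h | h
      · rw [h, h1]
      · exfalso
        apply hwR
        refine mem_RR.2 ⟨u, ?_⟩
        rw [h1] at h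
        rw [h, add_sub_cancel_left]
    intro v hv
    obtain ⟨u', hu', p', hp', he⟩ := Submodule.mem_sup.1 (C.prY_mem v)
    have h0 : u' = 0 := by
      apply C.ndU hu'
      intro u hu
      have h1 := polar_RR (hMO hx) (hxu u hu) hv
      have h2 : polar Q u (prY Q u1 u2 v) = 0 := by
        rcases hdec v hv with h | h
        · rw [← h]; exact h1
        · rw [h, polar_add_right, polar_comm Q u w, C.mem_w hw (Submodule.mem_sup_left hu), add_zero] at h1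
          exact h1
      rw [← he, polar_add_right, C.UP u hu p' hp', add_zero] at h2
      rw [polar_comm]
      exact h2
    rw [h0, zero_add] at he
    refine ⟨p', hp', ?_⟩
    rw [he]
    exact hdec v hv
  · right
    have hy5 : f ⟨y, hy⟩ ^ 5 = 1 := by
      rw [← map_pow, show (⟨y, hy⟩ : M) ^ 5 = 1 from Subtype.ext C.y5, map_one]
    have hyf : ∀ u, (f ⟨y, hy⟩ : U →ₗ[F] U) u = u → u = 0 := by
      intro u h
      refine Subtype.ext (C.yUf u u.2 ?_)
      rw [← hfy, h]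
    have hn := norm5 C.hF C.hU hsol f (y := ⟨y, hy⟩) hy5 hyf (fun a b => polar Q (a : V) b)
      (fun a b v => polar_add_left _ _ _ _) (fun a b => polar_comm _ _ _) (fun a => polar_self0 C.hF _) (by
        obtain ⟨a, ha, b, hb, h⟩ := C.U_nd
        exact ⟨⟨a, ha⟩, ⟨b, hb⟩, h⟩) (by
        intro m a v
        show polar Q (prY Q u1 u2 ((m : V ≃ₗ[F] V) a)) (prY Q u1 u2 ((m : V ≃ₗ[F] V) v)) = polar Q (a : V) v
        rw [C.polar_prY hw (C.polar_m hMO hMw m.2 (C.mem_w hw (Submodule.mem_sup_left a.2)))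
          (C.polar_m hMO hMw m.2 (C.mem_w hw (Submodule.mem_sup_left v.2))), polar_map (hMO m.2)]) ⟨x, hx⟩
    have hle : (LinearMap.range ((f ⟨x, hx⟩ : U →ₗ[F] U) - 1)).map U.subtype ≤ (RR x).map (prY Q u1 u2) := by
      rintro _ ⟨_, ⟨u, rfl⟩, rfl⟩
      refine ⟨x u - u, mem_RR.2 ⟨u, rfl⟩, ?_⟩
      rw [map_sub, C.prY_self (Submodule.mem_sup_left u.2)]
      rfl
    have hfr : finrank F ↥((LinearMap.range ((f ⟨x, hx⟩ : U →ₗ[F] U) - 1)).map U.subtype) =
        finrank F ↥(LinearMap.range ((f ⟨x, hx⟩ : U →ₗ[F] U) - 1)) :=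
      ((Submodule.equivMapOfInjective _ U.subtype_injective _).finrank_eq).symm
    have h1 := Submodule.finrank_mono hle
    have h2 := Submodule.finrank_map_le (prY Q u1 u2) (RR x)
    rw [hfr] at h1
    have h3 := rank_two C.hF C.hU hr (a := f ⟨x, hx⟩) (y := f ⟨y, hy⟩) (by
      rw [← map_pow, show (⟨x, hx⟩ : M) ^ r = 1 from Subtype.ext hxr, map_one]) ha hy5 hyf hn (by omega)
    refine ⟨h3.1, by omega, ?_⟩
    have h4 : (LinearMap.range ((f ⟨x, hx⟩ : U →ₗ[F] U) - 1)).map U.subtype = (RR x).map (prY Q u1 u2) :=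
      Submodule.eq_of_le_of_finrank_le hle (by omega)
    intro v hv
    have h5 : prY Q u1 u2 v ∈ (RR x).map (prY Q u1 u2) := ⟨v, hv, rfl⟩
    rw [← h4] at h5
    obtain ⟨u, _, he⟩ := h5
    refine ⟨prY Q u1 u2 v, ?_, hdec v hv⟩
    rw [← he]
    exact u.2

end Cfg

end Cfsg.Agent.H99.O8
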